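import Groth.Agent.FlatMor.K264.GeomSpec
import Groth.Agent.Flat2D.NGeomConst
import Groth.Agent.Flat2D.NoethConstr
import Groth.Agent.S7553

/-!
# Upper semicontinuity of the number of geometric irreducible components
-/

set_option autoImplicit false
universe u

open CategoryTheory AlgebraicGeometry Limits TopologicalSpace IsLocalRing

namespace K264.GeomUsc

open Groth.Agent.Flat2D

theorem isOpen_lt {X Y : Scheme.{u}} (f : X ⟶ Y) [Flat f] [IsProper f] [GeometricallyReduced f]
    [IsNoetherian Y] (n : ℕ∞) : IsOpen {y : Y | MoreMor.nGeomIrredComp f y < n} := by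
  have hc : Topology.IsConstructible {y : Y | MoreMor.nGeomIrredComp f y < n} := by
    refine NoethConstr.isConstructible_of_forall_generic _ fun y => ?_
    obtain ⟨V, hV1, hV2, hV3, hV4⟩ := NGeomConst.nGeomIrredComp_const f y
    refine ⟨V, hV1, hV2, hV3, ?_⟩
    by_cases h : MoreMor.nGeomIrredComp f y < n
    · refine Or.inl fun y' hy' => ?_
      rw [Set.mem_setOf_eq, hV4 y' hy']
      exact h
    · refine Or.inr ?_
      rw [Set.disjoint_left]
      intro y' hy' hlt
      rw [Set.mem_setOf_eq, hV4 y' hy'] at hlt
      exact h hlt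
  refine (Groth.Agent.S7553.result _ hc).2 ?_
  intro y y' h hy
  exact (GeomSpec.specialization_le f h).trans_lt hy

end K264.GeomUsc
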