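import Groth.Agent.Flat2C.GlueBlow

/-!
# Basic lemmas on restrictions and birational morphisms
-/

set_option autoImplicit false
universe u

open CategoryTheory AlgebraicGeometry Limits TopologicalSpace

namespace K264.Basic

/-- restriction to a smaller open is still an isomorphism -/
theorem isIso_restrict_of_le {X Y : Scheme.{u}} (f : X ⟶ Y) {U V : Y.Opens} (h : V ≤ U) [IsIso (f ∣_ U)] :
    IsIso (f ∣_ V) := by
  have e : U.ι ''ᵁ (U.ι ⁻¹ᵁ V) = V := by
    rw [Scheme.Hom.image_preimage_eq_opensRange_inf, Scheme.Opens.opensRange_ι]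
    exact inf_eq_right.mpr h
  rw [← e]
  have h1 : IsIso ((f ∣_ U) ∣_ (U.ι ⁻¹ᵁ V)) := inferInstance
  exact ((MorphismProperty.isomorphisms Scheme.{u}).arrow_mk_iso_iff
    (morphismRestrictRestrict f U (U.ι ⁻¹ᵁ V))).mp h1

/-- The image of `U` in `Y` under a morphism `π : X ⟶ Y` which is an isomorphism over `U₁`, where `U ≤ π⁻¹ U₁`. -/
theorem exists_image_open {X Y : Scheme.{u}} (π : X ⟶ Y) (U₁ : Y.Opens) [IsIso (π ∣_ U₁)] (U : X.Opens)
    (hU : U ≤ π ⁻¹ᵁ U₁) :
    ∃ V : Y.Opens, (V : Set Y) = (fun x => π x) '' (U : Set X) ∧ V ≤ U₁ ∧ π ⁻¹ᵁ V = U := by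
  let j : (U : Scheme.{u}) ⟶ Y := X.homOfLE hU ≫ (π ∣_ U₁) ≫ U₁.ι
  have hj : j = U.ι ≫ π := by
    simp [j, morphismRestrict_ι]
  have hjo : IsOpenImmersion j := by dsimp only [j]; infer_instance
  have hr : (j.opensRange : Set Y) = (fun x => π x) '' (U : Set X) := by
    rw [Scheme.Hom.coe_opensRange, hj]
    ext y
    constructor
    · rintro ⟨x, rfl⟩
      exact ⟨x.1, x.2, rfl⟩
    · rintro ⟨x, hx, rfl⟩
      exact ⟨⟨x, hx⟩, rfl⟩
  refine ⟨j.opensRange, hr, ?_, ?_⟩
  · intro y hy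
    rw [← SetLike.mem_coe, hr] at hy
    obtain ⟨x, hx, rfl⟩ := hy
    exact hU hx
  · ext x
    simp only [SetLike.mem_coe, Scheme.Hom.coe_preimage, Set.mem_preimage]
    constructor
    · intro h
      have h' : π x ∈ (j.opensRange : Set Y) := h
      rw [hr] at h'
      obtain ⟨z, hz, hzx⟩ := h'
      have hxU : x ∈ π ⁻¹ᵁ U₁ := by
        change π x ∈ U₁
        rw [← hzx]
        exact hU hz
      have hinj : Function.Injective (π ∣_ U₁) := (π ∣_ U₁).homeomorph.injective
      have : (⟨z, hU hz⟩ : (π ⁻¹ᵁ U₁ : X.Opens)) = ⟨x, hxU⟩ := by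
        apply hinj
        apply Subtype.ext
        rw [morphismRestrict_base_coe, morphismRestrict_base_coe]
        exact hzx
      have h2 : z = x := congrArg Subtype.val this
      rw [← h2]
      exact hz
    · intro h
      change π x ∈ (j.opensRange : Set Y)
      rw [hr]
      exact ⟨x, h, rfl⟩

end K264.Basic
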