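import Groth.Agent.Flat2C.GlueBlow
import Groth.Agent.Flat2C.CompData

/-!
# Chow's lemma relative to a quasi-projective open subset
-/

set_option autoImplicit false
universe u

open CategoryTheory AlgebraicGeometry Limits TopologicalSpace

namespace K264.ChowOpen

open Groth.Agent.Flat2C Groth.Agent.Flat2C.StrictTr Groth.Agent.Flat2C.StrictTr2

/-- Let `X` be separated of finite type over `S` and `U ⊆ X` a quasi-compact dense open which is a dense open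
subscheme of a proper `S`-scheme `P₀`.  Then some `U`-admissible blow-up of `X` is an open subscheme of a
`U`-admissible blow-up of `P₀`. -/
theorem main {X S : Scheme.{u}} [CompactSpace S] [QuasiSeparatedSpace S] (f : X ⟶ S) [IsSeparated f]
    [QuasiCompact f] [LocallyOfFiniteType f] (U : X.Opens) (hU : IsCompact (U : Set X)) (hUd : Dense (U : Set X))
    {P₀ : Scheme.{u}} (g₀ : P₀ ⟶ S) [IsProper g₀] (i : (U : Scheme.{u}) ⟶ P₀) [IsOpenImmersion i]
    (hid : Dense (Set.range i)) (hig : i ≫ g₀ = U.ι ≫ f) :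
    ∃ (𝓘 : X.IdealSheafData) (X' : Scheme.{u}) (q : X' ⟶ X) (𝓙 : P₀.IdealSheafData) (P : Scheme.{u}) (b : P ⟶ P₀)
      (j : X' ⟶ P), BlowUp.IsBlowUp q 𝓘 ∧ BlowUp.IsAdmissibleFor U 𝓘 ∧ BlowUp.IsBlowUp b 𝓙 ∧
      BlowUp.IsAdmissibleFor i.opensRange 𝓙 ∧ IsOpenImmersion j ∧ IsDominant j ∧ j ≫ b ≫ g₀ = q ≫ f := by
  have hcU : CompactSpace U := isCompact_iff_compactSpace.mp hU
  have hU₂ : IsCompact (i.opensRange : Set P₀) := isCompact_range i.continuous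
  let k₂ : (U : Scheme.{u}) ⟶ i.opensRange := i.isoOpensRange.hom
  have hk₂ : k₂ ≫ i.opensRange.ι = i := i.isoOpensRange_hom_ι
  have h : (𝟙 (U : Scheme.{u}) ≫ U.ι) ≫ f = (k₂ ≫ i.opensRange.ι) ≫ g₀ := by
    rw [hk₂, Category.id_comp, hig]
  have hc₁ : IsClosedImmersion (pullback.lift (f := U.ι ≫ f) (g := g₀) (𝟙 (U : Scheme.{u})) (k₂ ≫ i.opensRange.ι)
      (by rw [← h, Category.assoc])) := by
    have : IsClosedImmersion (pullback.lift (f := U.ι ≫ f) (g := g₀) (𝟙 (U : Scheme.{u})) (k₂ ≫ i.opensRange.ι)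
      (by rw [← h, Category.assoc]) ≫ pullback.fst _ _) := by
      rw [pullback.lift_fst]; infer_instance
    exact IsClosedImmersion.of_comp _ (pullback.fst (U.ι ≫ f) g₀)
  have hc₂ : IsClosedImmersion (pullback.lift (f := f) (g := i.opensRange.ι ≫ g₀) (𝟙 (U : Scheme.{u}) ≫ U.ι) k₂
      (by rw [h, Category.assoc])) := by
    have : IsClosedImmersion (pullback.lift (f := f) (g := i.opensRange.ι ≫ g₀) (𝟙 (U : Scheme.{u}) ≫ U.ι) k₂
      (by rw [h, Category.assoc]) ≫ pullback.snd _ _) := by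
      rw [pullback.lift_snd]; infer_instance
    exact IsClosedImmersion.of_comp _ (pullback.snd f (i.opensRange.ι ≫ g₀))
  obtain ⟨Y, q, hsep, hft, hqc, 𝓘, 𝓙, X', P, b₁, b₂, o₁, o₂, ho₁, ho₂, u₁, u₂, hb₁, hI, hb₂, hJ, hq₁, hq₂, hu₁,
    hu₂, hk, -, -⟩ := GlueBlow.exists_glue f g₀ U i.opensRange hU hU₂ (𝟙 _) k₂ h hc₁ hc₂
  rw [Category.id_comp] at hk
  have hb₂p : IsProper b₂ := BlowProper.isProper_of_isBlowUp hb₂ hJ.1
  have hb₁p : IsProper b₁ := BlowProper.isProper_of_isBlowUp hb₁ hI.1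
  have ho₂p : IsProper o₂ := by
    have : IsProper (o₂ ≫ q) := by rw [hq₂]; infer_instance
    exact IsProper.of_comp o₂ q
  have hcl : IsClosed (Set.range o₂) := o₂.isClosedMap.isClosed_range
  -- the complement of the centres
  have hU₁ : b₁ ⁻¹' (U : Set X) ⊆ Set.range u₁ := by
    intro x hx
    have hiso : IsIso (b₁ ∣_ U) :=
      Groth.Agent.Divis.BlowUpFormal.isIso_morphismRestrict_compl_support hb₁ U hI.2.symm
    have h1 : u₁ ⟨b₁ x, hx⟩ = x := by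
      have h2 : b₁ (u₁ ⟨b₁ x, hx⟩) = b₁ x := by
        rw [← Scheme.Hom.comp_apply, hu₁]
        rfl
      have hm : u₁ ⟨b₁ x, hx⟩ ∈ b₁ ⁻¹ᵁ U := by
        change b₁ (u₁ ⟨b₁ x, hx⟩) ∈ U
        rw [h2]; exact hx
      have h3 : (b₁ ∣_ U) ⟨u₁ ⟨b₁ x, hx⟩, hm⟩ = (b₁ ∣_ U) ⟨x, hx⟩ := by
        apply U.ι.isOpenEmbedding.injective
        rw [← Scheme.Hom.comp_apply, ← Scheme.Hom.comp_apply, morphismRestrict_ι, Scheme.Hom.comp_apply,
          Scheme.Hom.comp_apply]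
        exact h2
      exact congrArg Subtype.val ((b₁ ∣_ U).isOpenEmbedding.injective h3)
    exact ⟨_, h1⟩
  have hU₂' : b₂ ⁻¹' (i.opensRange : Set P₀) ⊆ Set.range u₂ := by
    intro x hx
    have hiso : IsIso (b₂ ∣_ i.opensRange) :=
      Groth.Agent.Divis.BlowUpFormal.isIso_morphismRestrict_compl_support hb₂ i.opensRange hJ.2.symm
    have h1 : u₂ ⟨b₂ x, hx⟩ = x := by
      have h2 : b₂ (u₂ ⟨b₂ x, hx⟩) = b₂ x := by
        rw [← Scheme.Hom.comp_apply, hu₂]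
        rfl
      have hm : u₂ ⟨b₂ x, hx⟩ ∈ b₂ ⁻¹ᵁ i.opensRange := by
        change b₂ (u₂ ⟨b₂ x, hx⟩) ∈ i.opensRange
        rw [h2]; exact hx
      have h3 : (b₂ ∣_ i.opensRange) ⟨u₂ ⟨b₂ x, hx⟩, hm⟩ = (b₂ ∣_ i.opensRange) ⟨x, hx⟩ := by
        apply i.opensRange.ι.isOpenEmbedding.injective
        rw [← Scheme.Hom.comp_apply, ← Scheme.Hom.comp_apply, morphismRestrict_ι, Scheme.Hom.comp_apply,
          Scheme.Hom.comp_apply]
        exact h2
      exact congrArg Subtype.val ((b₂ ∣_ i.opensRange).isOpenEmbedding.injective h3)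
    exact ⟨_, h1⟩
  have hd₁ : Dense (Set.range u₁) := (CompData.dense_preimage_blowUp hb₁ U hUd).mono hU₁
  have hd₂ : Dense (Set.range u₂) := (CompData.dense_preimage_blowUp hb₂ i.opensRange hid).mono hU₂'
  have hr : Set.range o₁ ⊆ Set.range o₂ := by
    rintro _ ⟨x, rfl⟩
    have h1 : x ∈ closure (Set.range u₁) := hd₁ x
    have h2 : o₁ x ∈ closure (o₁ '' Set.range u₁) := image_closure_subset_closure_image o₁.continuous ⟨x, h1, rfl⟩
    refine closure_minimal ?_ hcl h2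
    rintro _ ⟨_, ⟨y, rfl⟩, rfl⟩
    refine ⟨u₂ (k₂ y), ?_⟩
    rw [← Scheme.Hom.comp_apply, ← Scheme.Hom.comp_apply, ← Scheme.Hom.comp_apply, ← hk]
  let j : X' ⟶ P := IsOpenImmersion.lift o₂ o₁ hr
  have hj : j ≫ o₂ = o₁ := IsOpenImmersion.lift_fac _ _ _
  have hjo : IsOpenImmersion j := by
    have : IsOpenImmersion (j ≫ o₂) := by rw [hj]; exact ho₁
    exact IsOpenImmersion.of_comp j o₂
  refine ⟨𝓘, X', b₁, 𝓙, P, b₂, j, hb₁, hI, hb₂, hJ, hjo, ⟨?_⟩, ?_⟩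
  · refine hd₂.mono ?_
    rintro _ ⟨y, rfl⟩
    obtain ⟨x, rfl⟩ : ∃ x, k₂ x = y := (inferInstance : Surjective k₂).surj y
    refine ⟨u₁ x, ?_⟩
    apply o₂.isOpenEmbedding.injective
    rw [← Scheme.Hom.comp_apply, hj, ← Scheme.Hom.comp_apply, ← Scheme.Hom.comp_apply, hk,
      ← Scheme.Hom.comp_apply]
  · rw [← hq₂, ← Category.assoc, hj, hq₁]

end K264.ChowOpen
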