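import Groth.Agent.Flat2A.GeomInt
import Groth.Agent.Flat2A.AssFlat
import Mathlib.RingTheory.TensorProduct.DirectLimitFG
import Mathlib.RingTheory.Filtration
import Mathlib.RingTheory.Smooth.Basic

/-!
# `B ⟶ B^` is universally injective for the completion along a section
-/

set_option autoImplicit false

universe u

namespace K264.CompUnivInj

open TensorProduct Groth.Agent.Flat2A

variable {A : Type u} [CommRing A] {B : Type u} [CommRing B] [Algebra A B]

theorem mem_pow_smul {Bh : Type u} [CommRing Bh] [Algebra B Bh] [Algebra A Bh] [IsScalarTower A B Bh]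
    (J : Ideal B)
    (hq : Function.Bijective (Ideal.quotientMap (J.map (algebraMap B Bh)) (algebraMap B Bh) Ideal.le_comap_map))
    (Q : Type u) [AddCommGroup Q] [Module A Q] (y : B ⊗[A] Q)
    (hy : ((IsScalarTower.toAlgHom A B Bh).toLinearMap.rTensor Q) y = 0) :
    y ∈ (J • ⊤ : Submodule B (B ⊗[A] Q)) := by
  let π : B →ₗ[A] B ⧸ J := (IsScalarTower.toAlgHom A B (B ⧸ J)).toLinearMap
  let πh : Bh →ₗ[A] Bh ⧸ (J.map (algebraMap B Bh)) :=
    (IsScalarTower.toAlgHom A Bh (Bh ⧸ (J.map (algebraMap B Bh)))).toLinearMap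
  let g : (B ⧸ J) →ₗ[A] Bh ⧸ (J.map (algebraMap B Bh)) :=
    { toFun := Ideal.quotientMap (J.map (algebraMap B Bh)) (algebraMap B Bh) Ideal.le_comap_map
      map_add' := fun x y => map_add _ x y
      map_smul' := fun a x => by
        obtain ⟨b, rfl⟩ := Ideal.Quotient.mk_surjective x
        rw [RingHom.id_apply, Algebra.smul_def, Algebra.smul_def, map_mul]
        congr 1
        rw [IsScalarTower.algebraMap_apply A B (B ⧸ J), Ideal.Quotient.algebraMap_eq, Ideal.quotientMap_mk,
          ← IsScalarTower.algebraMap_apply A B Bh, IsScalarTower.algebraMap_apply A Bh (Bh ⧸ _)]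
        rfl }
  have hg : Function.Bijective g := hq
  have hcomp : πh ∘ₗ (IsScalarTower.toAlgHom A B Bh).toLinearMap = g ∘ₗ π := by
    ext b
    rfl
  have h1 : (g.rTensor Q) ((π.rTensor Q) y) = 0 := by
    rw [← LinearMap.comp_apply, ← LinearMap.rTensor_comp, ← hcomp, LinearMap.rTensor_comp, LinearMap.comp_apply, hy,
      map_zero]
  have h2 : (π.rTensor Q) y = 0 := by
    have hinj : Function.Injective (g.rTensor Q) :=
      (LinearEquiv.rTensor Q (LinearEquiv.ofBijective g hg)).injective
    exact hinj (by rw [h1, map_zero])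
  let ι : (J.restrictScalars A) →ₗ[A] B := (J.restrictScalars A).subtype
  have hex : Function.Exact ι π := by
    intro b
    constructor
    · intro hb
      exact ⟨⟨b, Ideal.Quotient.eq_zero_iff_mem.mp hb⟩, rfl⟩
    · rintro ⟨b, rfl⟩
      exact Ideal.Quotient.eq_zero_iff_mem.mpr b.2
  have key : ∀ w : (J.restrictScalars A) ⊗[A] Q, (ι.rTensor Q) w ∈ (J • ⊤ : Submodule B (B ⊗[A] Q)) := by
    intro w
    induction w using TensorProduct.induction_on with
    | zero => rw [map_zero]; exact Submodule.zero_mem _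
    | tmul i q =>
      have h3 : (ι.rTensor Q) (i ⊗ₜ q) = (i.1 : B) • ((1 : B) ⊗ₜ[A] q) := by
        rw [LinearMap.rTensor_tmul, TensorProduct.smul_tmul', smul_eq_mul, mul_one]
        rfl
      rw [h3]
      exact Submodule.smul_mem_smul i.2 trivial
    | add a b ha hb =>
      rw [map_add]
      exact Submodule.add_mem _ ha hb
  obtain ⟨w, rfl⟩ := (rTensor_exact Q hex Ideal.Quotient.mk_surjective y).mp h2
  exact key w

/-- An element `1 - r` with `r` in the kernel of a retraction is a nonzerodivisor on every `B ⊗ Q`, `Q` finite. -/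
theorem eq_zero_of_smul_eq [IsNoetherianRing A] [IsNoetherianRing B] [Module.Flat A B]
    (hfib : FlatCA.GeomIntegralFibres A B) (u : B →ₐ[A] A) (r : B) (hr : u r = 0)
    (Q : Type u) [AddCommGroup Q] [Module A Q] [Module.Finite A Q] (y : B ⊗[A] Q) (hy : r • y = y) : y = 0 := by
  by_contra hne
  obtain ⟨q, hq, hle⟩ := exists_le_isAssociatedPrime_of_isNoetherianRing B y hne
  have h1 : (1 - r) • y = 0 := by
    have h0 : (1 - r) • y = (1 : B) • y - r • y := sub_smul (1 : B) r y
    rw [h0, hy, one_smul, sub_self]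
  have h2 : 1 - r ∈ q := hle (by simpa using h1)
  obtain ⟨p, hp, hqp⟩ := AssFlat.exists_mem_fiberMod B Q ‹_› q hq
  rw [LinearEquiv.AssociatedPrimes.eq (FiberEquiv.fiberModEquiv B p B)] at hqp
  obtain ⟨-, z, hz⟩ := hqp
  have hdom : IsDomain (B ⊗[A] p.ResidueField) := GeomInt.isDomain_tensor hfib p.ResidueField
  have hz0 : z ≠ 0 := by
    rintro rfl
    apply hq.isPrime.ne_top
    rw [hz]
    simp
  obtain ⟨n, h3⟩ : ∃ n : ℕ, ((1 - r) ^ n) • z = 0 := by
    rw [hz] at h2
    obtain ⟨n, hn⟩ := h2
    exact ⟨n, by simpa using hn⟩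
  have h4 : (((1 - r) ^ n) ⊗ₜ[A] (1 : p.ResidueField) : B ⊗[A] p.ResidueField) = 0 := by
    have h5 : (((1 - r) ^ n) ⊗ₜ[A] (1 : p.ResidueField) : B ⊗[A] p.ResidueField) * z = 0 := by
      rw [← h3, Algebra.smul_def]
      rfl
    exact (mul_eq_zero.mp h5).resolve_right hz0
  let ψ : B ⊗[A] p.ResidueField →ₐ[A] p.ResidueField :=
    Algebra.TensorProduct.lift ((Algebra.ofId A p.ResidueField).comp u) (AlgHom.id A p.ResidueField)
      (fun _ _ => Commute.all _ _)
  have h6 := congrArg ψ h4
  rw [map_zero] at h6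
  simp [ψ, hr] at h6

theorem univInj (A : Type u) [CommRing A]
    [IsNoetherianRing A] (B : Type u) [CommRing B] [Algebra A B] [IsNoetherianRing B] [Module.Flat A B]
    (hfib : FlatCA.GeomIntegralFibres A B) (u : B →ₐ[A] A)
    (Bh : Type u) [CommRing Bh] [Algebra B Bh] [Algebra A Bh] [IsScalarTower A B Bh]
    (hq : ∀ n : ℕ, Function.Bijective (Ideal.quotientMap ((RingHom.ker u ^ n).map (algebraMap B Bh))
      (algebraMap B Bh) Ideal.le_comap_map)) :
    FlatCA.UnivInj A (IsScalarTower.toAlgHom A B Bh).toLinearMap := by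
  set f : B →ₗ[A] Bh := (IsScalarTower.toAlgHom A B Bh).toLinearMap with hf
  -- the finite case
  have hfin : ∀ (Q : Type u) [AddCommGroup Q] [Module A Q] [Module.Finite A Q] (x : Q ⊗[A] B),
      (f.lTensor Q) x = 0 → x = 0 := by
    intro Q _ _ _ x hx
    let y : B ⊗[A] Q := TensorProduct.comm A Q B x
    have hy : (f.rTensor Q) y = 0 := by
      have h1 : ∀ x : Q ⊗[A] B, (f.rTensor Q) (TensorProduct.comm A Q B x) =
          TensorProduct.comm A Q Bh ((f.lTensor Q) x) := by
        intro x
        induction x using TensorProduct.induction_on with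
        | zero => simp
        | tmul a b => rfl
        | add a b ha hb => rw [map_add, map_add, map_add, map_add, ha, hb]
      rw [h1, hx, map_zero]
    have hmem : y ∈ (⨅ n : ℕ, RingHom.ker u ^ n • ⊤ : Submodule B (B ⊗[A] Q)) := by
      rw [Submodule.mem_iInf]
      intro n
      exact mem_pow_smul _ (hq n) Q y hy
    obtain ⟨r, hr⟩ := (Ideal.mem_iInf_smul_pow_eq_bot_iff (RingHom.ker u) y).mp hmem
    have h0 : y = 0 := eq_zero_of_smul_eq hfib u r.1 r.2 Q y hr
    exact (TensorProduct.comm A Q B).map_eq_zero_iff.mp h0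
  intro Q _ _
  rw [injective_iff_map_eq_zero]
  intro x hx
  obtain ⟨P, hP, t, rfl⟩ := TensorProduct.exists_of_fg x
  have h1 : P.subtype.rTensor Bh ((f.lTensor P) t) = 0 := by
    rw [← hx]
    exact (LinearMap.congr_fun (LinearMap.rTensor_comp_lTensor (f := P.subtype) (g := f)) t).trans
      (LinearMap.congr_fun (LinearMap.lTensor_comp_rTensor (f := P.subtype) (g := f)) t).symm
  obtain ⟨P', hPP', hP', h2⟩ := TensorProduct.eq_zero_of_fg_of_subtype_eq_zero hP h1
  have : Module.Finite A P' := Module.Finite.iff_fg.mpr hP'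
  have h3 : (f.lTensor P') ((Submodule.inclusion hPP').rTensor B t) = 0 := by
    rw [← h2]
    exact (LinearMap.congr_fun (LinearMap.lTensor_comp_rTensor (f := Submodule.inclusion hPP') (g := f)) t).trans
      (LinearMap.congr_fun (LinearMap.rTensor_comp_lTensor (f := Submodule.inclusion hPP') (g := f)) t).symm
  have h4 := hfin P' _ h3
  have h5 : P.subtype.rTensor B t = P'.subtype.rTensor B ((Submodule.inclusion hPP').rTensor B t) := by
    rw [← LinearMap.comp_apply, ← LinearMap.rTensor_comp, Submodule.subtype_comp_inclusion]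
  rw [h5, h4, map_zero]

end K264.CompUnivInj
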