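import Groth.Agent.RigCh.K989.Model2
import Groth.Agent.Flat2C.GlueBlow

/-!
# Extending finite families of finite locally free modules after a modification of the boundary
-/

set_option autoImplicit false
universe u v

open CategoryTheory CategoryTheory.Limits AlgebraicGeometry TopologicalSpace Opposite
open AlgebraicGeometry.Scheme.Modules

namespace K264.ExtendLF

open K989.StrictMod K989.Model

/-- One finite locally free module extends after a blow-up in a centre away from `X`. -/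
theorem exists_one {X Y : Scheme.{u}} [IsNoetherian Y] (j : X ⟶ Y) [IsOpenImmersion j] (E : X.Modules)
    (hE : FlatMod.IsFinLocFree E) :
    ∃ (𝓘 : Y.IdealSheafData) (Y' : Scheme.{u}) (b : Y' ⟶ Y) (j' : X ⟶ Y'), BlowUp.IsBlowUp b 𝓘 ∧
      BlowUp.IsFiniteTypeIdeal 𝓘 ∧ Disjoint (Set.range j.base) (𝓘.support : Set Y) ∧
      IsProper b ∧ IsOpenImmersion j' ∧ j' ≫ b = j ∧ Set.range j'.base = b.base ⁻¹' (Set.range j.base) ∧
      ∃ E' : Y'.Modules, FlatMod.IsFinLocFree E' ∧ Nonempty ((Scheme.Modules.pullback j').obj E' ≅ E) := by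
  have hc : Coh.IsCoh E := Groth.Agent.PerfA.CohSerre.isCoh_of_isFinLocFree hE
  obtain ⟨P, hP, ⟨φ⟩⟩ := Groth.Agent.Sga67.CohLoc.exists_extension j E hc
  have e : (Scheme.Modules.pullback j).obj P ≅ E := (restrictFunctorIsoPullback j).symm.app P ≪≫ φ
  obtain ⟨𝓘, Y', b, hb, hbp, hft, hd, H⟩ := exists_flattening j P hP (isFinLocFree_of_iso e.symm hE)
  obtain ⟨j', hj', hjb, hr⟩ := K989.Boundary.exists_lift_openImmersion j 𝓘 b hb hd
  obtain ⟨G, π, hG⟩ := Groth.Agent.Flat2C.StrictM.exists_isStrictTransform b hft P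
  have t : IsTQ (𝓘.comap b) π := hG
  have hd' : Disjoint (Set.range j'.base) ((𝓘.comap b).support : Set Y') := by
    rw [hr, Scheme.IdealSheafData.support_comap]
    exact Disjoint.preimage _ hd
  have i := isIso_pullback t j' hd'
  exact ⟨𝓘, Y', b, j', hb, hft, hd, hbp, hj', hjb, hr, G, H G π hG,
    ⟨(asIso ((Scheme.Modules.pullback j').map π)).symm ≪≫ cmp hjb P ≪≫ e⟩⟩

/-- A finite family of finite locally free modules extends after a modification of the boundary; `Q` is any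
property of morphisms to the base stable under composition with blow-ups in ideals of finite type. -/
theorem exists_family_fin {X Y S : Scheme.{u}} [IsNoetherian Y] (j : X ⟶ Y) [IsOpenImmersion j] (g : Y ⟶ S)
    (Q : ∀ {T : Scheme.{u}}, (T ⟶ S) → Prop)
    (hQ : ∀ (T T' : Scheme.{u}) (b : T' ⟶ T) (h : T ⟶ S) (𝓘 : T.IdealSheafData), IsNoetherian T →
      BlowUp.IsBlowUp b 𝓘 → BlowUp.IsFiniteTypeIdeal 𝓘 → Q h → Q (b ≫ h)) (hg : Q g)
    (n : ℕ) (E : Fin n → X.Modules) (hE : ∀ i, FlatMod.IsFinLocFree (E i)) :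
    ∃ (Y' : Scheme.{u}) (j' : X ⟶ Y') (b : Y' ⟶ Y), IsNoetherian Y' ∧ IsOpenImmersion j' ∧ IsProper b ∧
      Q (b ≫ g) ∧ j' ≫ b = j ∧ Set.range j'.base = b.base ⁻¹' (Set.range j.base) ∧
      ∀ i, ∃ E' : Y'.Modules, FlatMod.IsFinLocFree E' ∧
        Nonempty ((Scheme.Modules.pullback j').obj E' ≅ E i) := by
  induction n with
  | zero =>
    exact ⟨Y, j, 𝟙 Y, inferInstance, inferInstance, inferInstance, by rwa [Category.id_comp], Category.comp_id _,
      rfl, fun i => i.elim0⟩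
  | succ n ih =>
    obtain ⟨Y₁, j₁, b₁, hN₁, hj₁, hb₁, hQ₁, hjb₁, hr₁, hE₁⟩ := ih (fun i => E i.castSucc) fun i => hE _
    obtain ⟨𝓘, Y', b, j', hb, hft, -, hbp, hj', hjb, hr, E', hE', ⟨e⟩⟩ := exists_one j₁ (E (Fin.last n)) (hE _)
    have hl : IsLocallyNoetherian Y' := LocallyOfFiniteType.isLocallyNoetherian b
    have hcp : CompactSpace Y' := QuasiCompact.compactSpace_of_compactSpace b
    refine ⟨Y', j', b ≫ b₁, {}, hj', inferInstance, ?_, ?_, ?_, fun i => ?_⟩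
    · rw [Category.assoc]
      exact hQ _ _ b (b₁ ≫ g) 𝓘 hN₁ hb hft hQ₁
    · rw [← Category.assoc, hjb, hjb₁]
    · rw [hr, hr₁, Scheme.Hom.comp_base]
      rfl
    · induction i using Fin.lastCases with
      | last => exact ⟨E', hE', ⟨e⟩⟩
      | cast i =>
        obtain ⟨G, hG, ⟨eG⟩⟩ := hE₁ i
        exact ⟨(Scheme.Modules.pullback b).obj G, Groth.Agent.PerfC.PullRestrict.isFinLocFree_pullback b hG,
          ⟨cmp hjb G ≪≫ eG⟩⟩

/-- The case of an arbitrary finite index type. -/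
theorem exists_family {X Y S : Scheme.{u}} [IsNoetherian Y] (j : X ⟶ Y) [IsOpenImmersion j] (g : Y ⟶ S)
    (Q : ∀ {T : Scheme.{u}}, (T ⟶ S) → Prop)
    (hQ : ∀ (T T' : Scheme.{u}) (b : T' ⟶ T) (h : T ⟶ S) (𝓘 : T.IdealSheafData), IsNoetherian T →
      BlowUp.IsBlowUp b 𝓘 → BlowUp.IsFiniteTypeIdeal 𝓘 → Q h → Q (b ≫ h)) (hg : Q g)
    {ι : Type v} [Finite ι] (E : ι → X.Modules) (hE : ∀ i, FlatMod.IsFinLocFree (E i)) :
    ∃ (Y' : Scheme.{u}) (j' : X ⟶ Y') (b : Y' ⟶ Y), IsNoetherian Y' ∧ IsOpenImmersion j' ∧ IsProper b ∧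
      Q (b ≫ g) ∧ j' ≫ b = j ∧ Set.range j'.base = b.base ⁻¹' (Set.range j.base) ∧
      ∀ i, ∃ E' : Y'.Modules, FlatMod.IsFinLocFree E' ∧
        Nonempty ((Scheme.Modules.pullback j').obj E' ≅ E i) := by
  obtain ⟨n, ⟨eι⟩⟩ := Finite.exists_equiv_fin ι
  obtain ⟨Y', j', b, h1, h2, h3, h4, h5, h6, h7⟩ := exists_family_fin j g Q hQ hg n (fun i => E (eι.symm i))
    fun i => hE _
  refine ⟨Y', j', b, h1, h2, h3, h4, h5, h6, fun i => ?_⟩
  have := h7 (eι i)
  rwa [Equiv.symm_apply_apply] at this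

/-- Replacing the compactification by the schematic closure. -/
theorem exists_dominant {X Y S : Scheme.{u}} [IsNoetherian Y] (j : X ⟶ Y) [IsOpenImmersion j] (g : Y ⟶ S)
    {ι : Type v} (E : ι → X.Modules)
    (h : ∀ i, ∃ E' : Y.Modules, FlatMod.IsFinLocFree E' ∧ Nonempty ((Scheme.Modules.pullback j).obj E' ≅ E i)) :
    ∃ (Z : Scheme.{u}) (k : X ⟶ Z) (c : Z ⟶ Y), IsClosedImmersion c ∧ IsOpenImmersion k ∧ QuasiCompact k ∧
      IsSchemeTheoreticallyDominant k ∧ k ≫ c = j ∧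
      ∀ i, ∃ E' : Z.Modules, FlatMod.IsFinLocFree E' ∧
        Nonempty ((Scheme.Modules.pullback k).obj E' ≅ E i) := by
  have hqc : QuasiCompact j := inferInstance
  obtain ⟨ho, -⟩ := Groth.Agent.Flat2C.GlueBlow.isOpenImmersion_toImage_of_fac j j (𝟙 X) (Category.id_comp _)
  have hNZ : IsLocallyNoetherian j.image := LocallyOfFiniteType.isLocallyNoetherian j.imageι
  have hcp : CompactSpace j.image := QuasiCompact.compactSpace_of_compactSpace j.imageι
  have hN : IsNoetherian j.image := {}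
  refine ⟨j.image, j.toImage, j.imageι, inferInstance, ho, inferInstance,
    Groth.Agent.Flat2C.GlueBlow.isSchemeTheoreticallyDominant_toImage j, j.toImage_imageι, fun i => ?_⟩
  obtain ⟨G, hG, ⟨eG⟩⟩ := h i
  exact ⟨(Scheme.Modules.pullback j.imageι).obj G, Groth.Agent.PerfC.PullRestrict.isFinLocFree_pullback _ hG,
    ⟨cmp j.toImage_imageι G ≪≫ eG⟩⟩

end K264.ExtendLF
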