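import Groth.Agent.FlatMor.K264.ExtendLF

/-!
# Compactifications extending a finite family of finite locally free modules, for a class of proper morphisms
-/

set_option autoImplicit false
universe u v

open CategoryTheory CategoryTheory.Limits AlgebraicGeometry TopologicalSpace Opposite

namespace K264.ExtendLF2

/-- `Q` is a class of proper morphisms to `S`, stable under precomposition with blow-ups and closed immersions. -/
theorem main {S X : Scheme.{u}} (f : X ⟶ S) [IsNoetherian S] {ι : Type v} [Finite ι] (E : ι → X.Modules)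
    (hE : ∀ i, FlatMod.IsFinLocFree (E i)) (Q : ∀ {T : Scheme.{u}}, (T ⟶ S) → Prop)
    (hprop : ∀ {T : Scheme.{u}} (h : T ⟶ S), Q h → IsProper h)
    (hblow : ∀ (T T' : Scheme.{u}) (b : T' ⟶ T) (h : T ⟶ S) (𝓘 : T.IdealSheafData), IsNoetherian T →
      BlowUp.IsBlowUp b 𝓘 → BlowUp.IsFiniteTypeIdeal 𝓘 → Q h → Q (b ≫ h))
    (hclosed : ∀ (T T' : Scheme.{u}) (c : T' ⟶ T) (h : T ⟶ S), IsClosedImmersion c → Q h → Q (c ≫ h))
    (h₀ : ∃ (X₀ : Scheme.{u}) (j₀ : X ⟶ X₀) (g₀ : X₀ ⟶ S), IsOpenImmersion j₀ ∧ Q g₀ ∧ j₀ ≫ g₀ = f) :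
    ∃ (X' : Scheme.{u}) (j : X ⟶ X') (g : X' ⟶ S), IsOpenImmersion j ∧ QuasiCompact j ∧
      IsSchemeTheoreticallyDominant j ∧ Q g ∧ j ≫ g = f ∧
      ∀ i, ∃ E' : X'.Modules, FlatMod.IsFinLocFree E' ∧
        Nonempty ((Scheme.Modules.pullback j).obj E' ≅ E i) := by
  obtain ⟨Y₀, j₀, g₀, hj₀, hg₀, hjg₀⟩ := h₀
  have hp₀ := hprop _ hg₀
  have hl₀ : IsLocallyNoetherian Y₀ := LocallyOfFiniteType.isLocallyNoetherian g₀
  have hcp₀ : CompactSpace Y₀ := QuasiCompact.compactSpace_of_compactSpace g₀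
  have hn₀ : IsNoetherian Y₀ := {}
  obtain ⟨Y, j, b, hN, hj, hb, hQ, hjb, -, hE'⟩ := ExtendLF.exists_family j₀ g₀ Q hblow hg₀ E hE
  obtain ⟨Z, k, c, hc, hk, hkq, hkd, hkc, hE''⟩ := ExtendLF.exists_dominant j (b ≫ g₀) E hE'
  refine ⟨Z, k, c ≫ b ≫ g₀, hk, hkq, hkd, hclosed _ _ c (b ≫ g₀) hc hQ, ?_, hE''⟩
  rw [← Category.assoc, hkc, ← Category.assoc, hjb, hjg₀]

end K264.ExtendLF2
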