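import Groth.Agent.FlatMor.K264.RedCount
import Groth.Agent.Flat2D.GeomSub
import Groth.Agent.S1654
import Groth.Agent.Ega43.DvrScheme

/-!
# Numbers of geometric irreducible components in flat proper families with geometrically reduced fibres
-/

set_option autoImplicit false
universe u

open CategoryTheory AlgebraicGeometry Limits TopologicalSpace IsLocalRing

namespace K264.GeomCount

open Groth.Agent.Flat2D

/-- After a finite extension the irreducible components are geometrically irreducible. -/
theorem exists_ext (κ : Type u) [Field κ] {F : Scheme.{u}} (q : F ⟶ Spec (CommRingCat.of κ)) [LocallyOfFiniteType q]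
    [QuasiCompact q] :
    ∃ (k' : Type u) (_ : Field k') (_ : Algebra κ k'), FiniteDimensional κ k' ∧
      (irreducibleComponents (pullback q (Spec.map (CommRingCat.ofHom (algebraMap κ k'))) : Scheme.{u})).encard =
        MoreMor.nGeomIrredComp q (closedPoint κ) := by
  letI : F.Over (Spec (CommRingCat.of κ)) := ⟨q⟩
  have hft : LocallyOfFiniteType (F ↘ Spec (CommRingCat.of κ)) := ‹LocallyOfFiniteType q›
  have hN : IsLocallyNoetherian F := LocallyOfFiniteType.isLocallyNoetherian q
  have hC : CompactSpace F := QuasiCompact.compactSpace_of_compactSpace q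
  have hN' : IsNoetherian F := {}
  obtain ⟨k', _, _, hfin, -, H⟩ := Groth.Agent.S1654.result κ F NoetherianSpace.finite_irreducibleComponents
  refine ⟨k', inferInstance, inferInstance, hfin, ?_⟩
  let g := Spec.map (CommRingCat.ofHom (algebraMap κ k'))
  let F' : Scheme.{u} := pullback q g
  let q' : F' ⟶ Spec (CommRingCat.of k') := pullback.snd q g
  have hft' : LocallyOfFiniteType q' := inferInstance
  have hqc' : QuasiCompact q' := inferInstance
  have hNF : IsLocallyNoetherian F' := LocallyOfFiniteType.isLocallyNoetherian q'
  have hCF : CompactSpace F' := QuasiCompact.compactSpace_of_compactSpace q'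
  have hNF' : IsNoetherian F' := {}
  have hfinC : Finite (irreducibleComponents F') := NoetherianSpace.finite_irreducibleComponents
  have h1 : MoreMor.nGeomIrredComp q' (closedPoint k') = ENat.card (irreducibleComponents F') := by
    refine GeomSub.nGeomIrredComp_eq_card q' (fun T : irreducibleComponents F' => T.1)
      (fun T => isClosed_of_mem_irreducibleComponents _ T.2) _ ?_ ?_ ?_
    · rintro ⟨T, hT⟩
      have h2 := H T hT
      have h3 : Set.range (Scheme.IdealSheafData.vanishingIdeal
          ⟨T, isClosed_of_mem_irreducibleComponents T hT⟩).subschemeι = T := by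
        rw [Scheme.IdealSheafData.range_subschemeι]
        exact Scheme.IdealSheafData.coe_support_vanishingIdeal _
      change GeomSub.GIrr q' T (closedPoint k')
      rw [← h3, GeomSub.girr_iff]
      intro K _ z hz Z a b hab
      exact h2.geometrically_irreducibleSpace z a b hab
    · intro x _
      exact ⟨⟨_, irreducibleComponent_mem_irreducibleComponents x⟩, mem_irreducibleComponent⟩
    · intro i j hij
      have hnot : ¬ (i.1 ⊆ j.1) := fun hle ↦ hij (Subtype.ext (i.2.eq_of_le j.2.1 hle))
      obtain ⟨w, hwi, hwj⟩ := Set.not_subset.1 hnot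
      exact ⟨w, Subsingleton.elim (α := PrimeSpectrum k') _ _, hwi, hwj⟩
  have h2 := GeomFib.nGeomIrredComp_baseChange q q' (pullback.fst q g) g (IsPullback.of_hasPullback q g) (closedPoint k')
  have h3 : g (closedPoint k') = closedPoint κ := Subsingleton.elim (α := PrimeSpectrum κ) _ _
  rw [h3, h1] at h2
  exact h2

/-- The number of irreducible components of a fibre is at most the geometric one. -/
theorem encard_fiber_le {X Y : Scheme.{u}} (f : X ⟶ Y) (y : Y) :
    (irreducibleComponents (f.fiber y)).encard ≤ MoreMor.nGeomIrredComp f y := by
  let K := AlgebraicClosure (Y.residueField y)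
  let φ : Spec (CommRingCat.of K) ⟶ Spec (Y.residueField y) :=
    Spec.map (CommRingCat.ofHom (algebraMap (Y.residueField y) K))
  have h := (IsPullback.of_hasPullback (f.fiberToSpecResidueField y) φ)
  have h' : IsPullback (pullback.fst (f.fiberToSpecResidueField y) φ ≫ f.fiberι y)
      (pullback.snd (f.fiberToSpecResidueField y) φ) f (φ ≫ Y.fromSpecResidueField y) :=
    (h.flip.paste_vert (IsPullback.of_hasPullback f (Y.fromSpecResidueField y)).flip).flip
  have h1 := GeomFib.nGeomIrredComp_eq f _ _ _ h'
  have h2 : (φ ≫ Y.fromSpecResidueField y) (closedPoint K) = y := by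
    rw [Scheme.Hom.comp_apply]
    exact Scheme.fromSpecResidueField_apply _ _
  rw [h2] at h1
  rw [← h1]
  have hs : Surjective φ := by
    constructor
    intro x
    exact ⟨closedPoint K, Subsingleton.elim (α := PrimeSpectrum (Y.residueField y)) _ _⟩
  have hs' : Surjective (pullback.fst (f.fiberToSpecResidueField y) φ) := inferInstance
  exact RedCount.encard_le_of_surjective (pullback.fst (f.fiberToSpecResidueField y) φ)
    (pullback.fst (f.fiberToSpecResidueField y) φ).continuous hs'.surj

end K264.GeomCount
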