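import Groth.Agent.FlatMor.K264.GeomCount

/-!
# The number of geometric irreducible components does not drop under specialization
-/

set_option autoImplicit false
universe u

open CategoryTheory AlgebraicGeometry Limits TopologicalSpace IsLocalRing

namespace K264.GeomSpec

open Groth.Agent.Flat2D

theorem specialization_le {X Y : Scheme.{u}} (f : X ⟶ Y) [Flat f] [IsProper f] [GeometricallyReduced f]
    [IsLocallyNoetherian Y] {y' y : Y} (h : y' ⤳ y) :
    MoreMor.nGeomIrredComp f y' ≤ MoreMor.nGeomIrredComp f y := by
  by_cases hne : y' = y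
  · rw [hne]
  have hft₀ : LocallyOfFiniteType (f.fiberToSpecResidueField y') := MorphismProperty.pullback_snd _ _ inferInstance
  have hqc₀ : QuasiCompact (f.fiberToSpecResidueField y') := MorphismProperty.pullback_snd _ _ inferInstance
  obtain ⟨k', _, _, hfin, hcount⟩ := GeomCount.exists_ext (Y.residueField y') (f.fiberToSpecResidueField y')
  let φ : Y.residueField y' ⟶ CommRingCat.of k' := CommRingCat.ofHom (algebraMap (Y.residueField y') k')
  have hφ : φ.hom.EssFiniteType := by
    have h1 : Algebra.EssFiniteType (Y.residueField y') k' := inferInstance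
    change (algebraMap (Y.residueField y') k').EssFiniteType
    rw [RingHom.essFiniteType_algebraMap]
    exact h1
  obtain ⟨R, _, _, _, _, _, g, hg1, hg2⟩ :=
    Groth.Agent.Ega43.DvrScheme.exists_dvr_of_specializes h hne k' φ hφ
  let XR : Scheme.{u} := pullback f g
  let fR : XR ⟶ Spec (CommRingCat.of R) := pullback.snd f g
  have hR := IsPullback.of_hasPullback f g
  have hXR : IsLocallyNoetherian XR := LocallyOfFiniteType.isLocallyNoetherian fR
  let F' : Scheme.{u} := pullback (f.fiberToSpecResidueField y') (Spec.map φ)
  have hF' := (IsPullback.of_hasPullback (f.fiberToSpecResidueField y') (Spec.map φ))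
  have hF'' : IsPullback (pullback.fst (f.fiberToSpecResidueField y') (Spec.map φ) ≫ f.fiberι y')
      (pullback.snd (f.fiberToSpecResidueField y') (Spec.map φ)) f (Spec.map φ ≫ Y.fromSpecResidueField y') :=
    (hF'.flip.paste_vert (IsPullback.of_hasPullback f (Y.fromSpecResidueField y')).flip).flip
  -- the map to `XR`
  obtain ⟨a, ha, -⟩ := GeomFib.exists_isPullback_lift hR hF'' (Spec.map (CommRingCat.ofHom (algebraMap R k'))) hg2
  have hpre : IsPreimmersion (Spec.map (CommRingCat.ofHom (algebraMap R k'))) :=
    IsPreimmersion.of_isLocalization (nonZeroDivisors R)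
  have hapre : IsPreimmersion a := MorphismProperty.of_isPullback ha.flip hpre
  let η : Spec (CommRingCat.of R) := Spec.map (CommRingCat.ofHom (algebraMap R k')) (closedPoint k')
  have hηbot : (η : PrimeSpectrum R).asIdeal = ⊥ := by
    change Ideal.comap (algebraMap R k') (closedPoint k').asIdeal = ⊥
    have : (closedPoint k').asIdeal = ⊥ := IsLocalRing.maximalIdeal_eq_bot
    rw [this]
    exact (RingHom.injective_iff_ker_eq_bot _).1 (IsFractionRing.injective R k')
  have hηspec : ∀ z : Spec (CommRingCat.of R), η ⤳ z := by
    intro z
    refine (PrimeSpectrum.le_iff_specializes (η : PrimeSpectrum R) (z : PrimeSpectrum R)).mp ?_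
    rw [← PrimeSpectrum.asIdeal_le_asIdeal, hηbot]
    exact bot_le
  have hηmax : ∀ z : Spec (CommRingCat.of R), z ⤳ η → z = η := fun z hz => (hz.antisymm (hηspec z)).eq
  have harange : Set.range a = fR ⁻¹' {η} := by
    have h1 : Set.range (Spec.map (CommRingCat.ofHom (algebraMap R k'))) = {η} := by
      ext z
      constructor
      · rintro ⟨w, rfl⟩
        have : w = closedPoint k' := Subsingleton.elim (α := PrimeSpectrum k') _ _
        rw [this]
        exact Set.mem_singleton _
      · rintro rfl
        exact ⟨_, rfl⟩
    have h2 := Scheme.image_preimage_eq_of_isPullback ha.flip Set.univ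
    simp only [Set.preimage_univ, Set.image_univ] at h2
    rw [h2, h1]
  let s : Spec (CommRingCat.of R) := closedPoint R
  let e := (stalkClosedPointIso (CommRingCat.of R)).commRingCatIsoToRingEquiv.symm
  have hdom : IsDomain ((Spec (CommRingCat.of R)).presheaf.stalk s) := e.symm.toMulEquiv.isDomain R
  have hdvr : IsDiscreteValuationRing ((Spec (CommRingCat.of R)).presheaf.stalk s) :=
    IsDiscreteValuationRing.RingEquivClass.isDiscreteValuationRing e
  have hgr : GeometricallyReduced fR := inferInstance
  have hred : IsReduced (fR.fiber s) := inferInstance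
  have hle := RedCount.count_le fR fR.isClosedMap η s (hηspec s) hηmax hred a hapre.isEmbedding harange
  have hpt : (f.fiberToSpecResidueField y') = (f.fiberToSpecResidueField y') := rfl
  have h3 : MoreMor.nGeomIrredComp (f.fiberToSpecResidueField y') (closedPoint (Y.residueField y')) =
      MoreMor.nGeomIrredComp f y' := by
    rw [GeomFib.nGeomIrredComp_baseChange f (f.fiberToSpecResidueField y') (f.fiberι y')
      (Y.fromSpecResidueField y') (IsPullback.of_hasPullback f (Y.fromSpecResidueField y'))]
    congr 1
    exact Scheme.fromSpecResidueField_apply _ _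
  have h4 : MoreMor.nGeomIrredComp fR s = MoreMor.nGeomIrredComp f y := by
    rw [GeomFib.nGeomIrredComp_baseChange f fR (pullback.fst f g) g hR, hg1]
  calc MoreMor.nGeomIrredComp f y' = (irreducibleComponents F').encard := by rw [← h3, ← hcount]; rfl
    _ ≤ (irreducibleComponents (fR.fiber s)).encard := hle
    _ ≤ MoreMor.nGeomIrredComp fR s := GeomCount.encard_fiber_le fR s
    _ = MoreMor.nGeomIrredComp f y := h4

end K264.GeomSpec
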