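import Groth.Agent.FlatMor.K264.ProperQDom

/-!
# Glueing finitely many schemes along a common dense open after admissible blow-ups
-/

set_option autoImplicit false
universe u

open CategoryTheory AlgebraicGeometry Limits TopologicalSpace

namespace K264.GlueMany

open Groth.Agent.Flat2C.StrictTr Groth.Agent.Flat2C.StrictTr2

/-- `S1281` with the additional information that the two blow-ups cover the common target. -/
theorem exists_two {U X₁ X₂ S : Scheme.{u}} [CompactSpace S] [QuasiSeparatedSpace S]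
    (gU : U ⟶ S) (g₁ : X₁ ⟶ S) (g₂ : X₂ ⟶ S)
    [IsSeparated gU] [LocallyOfFiniteType gU] [QuasiCompact gU]
    [IsSeparated g₁] [LocallyOfFiniteType g₁] [QuasiCompact g₁]
    [IsSeparated g₂] [LocallyOfFiniteType g₂] [QuasiCompact g₂]
    (j₁ : U ⟶ X₁) (j₂ : U ⟶ X₂) [IsOpenImmersion j₁] [IsOpenImmersion j₂] (hj₁ : j₁ ≫ g₁ = gU) (hj₂ : j₂ ≫ g₂ = gU) :
    ∃ (X : Scheme.{u}) (q : X ⟶ S) (_ : IsSeparated q) (_ : LocallyOfFiniteType q) (_ : QuasiCompact q)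
      (𝓘₁ : X₁.IdealSheafData) (𝓘₂ : X₂.IdealSheafData) (X₁' X₂' : Scheme.{u}) (b₁ : X₁' ⟶ X₁) (b₂ : X₂' ⟶ X₂)
      (o₁ : X₁' ⟶ X) (o₂ : X₂' ⟶ X) (u₁ : U ⟶ X₁') (u₂ : U ⟶ X₂'),
      BlowUp.IsBlowUp b₁ 𝓘₁ ∧ BlowUp.IsAdmissibleFor j₁.opensRange 𝓘₁ ∧
      BlowUp.IsBlowUp b₂ 𝓘₂ ∧ BlowUp.IsAdmissibleFor j₂.opensRange 𝓘₂ ∧
      IsOpenImmersion o₁ ∧ IsOpenImmersion o₂ ∧ o₁ ≫ q = b₁ ≫ g₁ ∧ o₂ ≫ q = b₂ ≫ g₂ ∧
      u₁ ≫ b₁ = j₁ ∧ u₂ ≫ b₂ = j₂ ∧ u₁ ≫ o₁ = u₂ ≫ o₂ ∧ ∀ x : X, x ∈ Set.range o₁ ∨ x ∈ Set.range o₂ := by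
  have hcU : CompactSpace U := QuasiCompact.compactSpace_of_compactSpace gU
  have hU₁ : IsCompact (j₁.opensRange : Set X₁) := isCompact_range j₁.continuous
  have hU₂ : IsCompact (j₂.opensRange : Set X₂) := isCompact_range j₂.continuous
  have h : (j₁.isoOpensRange.hom ≫ j₁.opensRange.ι) ≫ g₁ = (j₂.isoOpensRange.hom ≫ j₂.opensRange.ι) ≫ g₂ := by
    rw [Scheme.Hom.isoOpensRange_hom_ι, Scheme.Hom.isoOpensRange_hom_ι, hj₁, hj₂]
  have hc₁ : IsClosedImmersion (pullback.lift (f := j₁.opensRange.ι ≫ g₁) (g := g₂) j₁.isoOpensRange.hom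
      (j₂.isoOpensRange.hom ≫ j₂.opensRange.ι) (by rw [← h, Category.assoc])) := by
    have : IsClosedImmersion (pullback.lift (f := j₁.opensRange.ι ≫ g₁) (g := g₂) j₁.isoOpensRange.hom
      (j₂.isoOpensRange.hom ≫ j₂.opensRange.ι) (by rw [← h, Category.assoc]) ≫ pullback.fst _ _) := by
      rw [pullback.lift_fst]
      infer_instance
    exact IsClosedImmersion.of_comp _ (pullback.fst (j₁.opensRange.ι ≫ g₁) g₂)
  have hc₂ : IsClosedImmersion (pullback.lift (f := g₁) (g := j₂.opensRange.ι ≫ g₂)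
      (j₁.isoOpensRange.hom ≫ j₁.opensRange.ι) j₂.isoOpensRange.hom (by rw [h, Category.assoc])) := by
    have : IsClosedImmersion (pullback.lift (f := g₁) (g := j₂.opensRange.ι ≫ g₂)
      (j₁.isoOpensRange.hom ≫ j₁.opensRange.ι) j₂.isoOpensRange.hom (by rw [h, Category.assoc]) ≫
        pullback.snd _ _) := by
      rw [pullback.lift_snd]
      infer_instance
    exact IsClosedImmersion.of_comp _ (pullback.snd g₁ (j₂.opensRange.ι ≫ g₂))
  obtain ⟨X, q, hq₁, hq₂, hq₃, 𝓘₁, 𝓘₂, X₁', X₂', b₁, b₂, o₁, o₂, ho₁, ho₂, u₁, u₂, hb₁, hI₁, hb₂, hI₂, e₁, e₂, e₃, e₄,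
    e₅, e₆, -⟩ := Groth.Agent.Flat2C.GlueBlow.exists_glue g₁ g₂ j₁.opensRange j₂.opensRange hU₁ hU₂
    j₁.isoOpensRange.hom j₂.isoOpensRange.hom h hc₁ hc₂
  refine ⟨X, q, hq₁, hq₂, hq₃, 𝓘₁, 𝓘₂, X₁', X₂', b₁, b₂, o₁, o₂, j₁.isoOpensRange.hom ≫ u₁,
    j₂.isoOpensRange.hom ≫ u₂, hb₁, hI₁, hb₂, hI₂, ho₁, ho₂, e₁, e₂, ?_, ?_, ?_, ?_⟩
  · rw [Category.assoc, e₃, Scheme.Hom.isoOpensRange_hom_ι]
  · rw [Category.assoc, e₄, Scheme.Hom.isoOpensRange_hom_ι]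
  · rw [Category.assoc, e₅, Category.assoc]
  · intro x
    have : x ∈ (o₁.opensRange ⊔ o₂.opensRange : X.Opens) := by rw [e₆]; trivial
    exact this

/-- The data for one member: an admissible blow-up of `X` with an open immersion onto `O ⊆ Xc`. -/
def Member {S U Xc X : Scheme.{u}} (q : Xc ⟶ S) (jc : U ⟶ Xc) (O : Xc.Opens) (g : X ⟶ S) (j : U ⟶ X)
    [IsOpenImmersion j] : Prop :=
  ∃ (𝓘 : X.IdealSheafData) (X' : Scheme.{u}) (b : X' ⟶ X) (o : X' ⟶ Xc) (u : U ⟶ X'),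
    BlowUp.IsBlowUp b 𝓘 ∧ BlowUp.IsAdmissibleFor j.opensRange 𝓘 ∧
      IsOpenImmersion o ∧ o ≫ q = b ≫ g ∧ u ≫ b = j ∧ u ≫ o = jc ∧ Set.range o = (O : Set Xc)

/-- A member stays a member after blowing up the common target. -/
theorem Member.blowUp {S U Xc X : Scheme.{u}} [CompactSpace X] [QuasiSeparatedSpace X]
    {q : Xc ⟶ S} {jc : U ⟶ Xc} [IsOpenImmersion jc] {O : Xc.Opens} {g : X ⟶ S} {j : U ⟶ X}
    [IsOpenImmersion j] (h : Member q jc O g j) {𝓙 : Xc.IdealSheafData} {Xc' : Scheme.{u}} {c : Xc' ⟶ Xc}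
    (hc : BlowUp.IsBlowUp c 𝓙) (h𝓙 : BlowUp.IsAdmissibleFor jc.opensRange 𝓙) (uc : U ⟶ Xc') (huc : uc ≫ c = jc)
    {Xh : Scheme.{u}} (oc : Xc' ⟶ Xh) [IsOpenImmersion oc] (qh : Xh ⟶ S) (hoc : oc ≫ qh = c ≫ q) :
    Member qh (uc ≫ oc) (oc ''ᵁ (c ⁻¹ᵁ O)) g j := by
  obtain ⟨𝓘, X', b, o, u, hb, ha, ho, hoq, hub, huo, hr⟩ := h
  have hb' : BlowUp.IsBlowUp (pullback.fst o c) (𝓙.comap o) :=
    Groth.Agent.Divis.BlowUpFormal.isBlowUp_of_isPullback hc (IsPullback.of_hasPullback o c).flip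
  obtain ⟨𝓚, hKft, hKs, hK⟩ := Groth.Agent.S1694.result X 𝓘 ha.1 b hb (𝓙.comap o)
    (isFiniteTypeIdeal_comap h𝓙.1 o) _ hb'
  refine ⟨𝓚, pullback o c, pullback.fst o c ≫ b, pullback.snd o c ≫ oc, pullback.lift u uc (by rw [huo, huc]),
    hK, ⟨hKft, ?_⟩, inferInstance, ?_, ?_, ?_, ?_⟩
  · rw [hKs, Set.disjoint_union_left]
    refine ⟨ha.2, ?_⟩
    rw [Set.disjoint_left]
    rintro _ ⟨x, hx, rfl⟩ hxU
    obtain ⟨-, hu⟩ := K264.ProperQDom.isOpenImmersion_of_comp_blowUp j hb ha u hub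
    have hx' : x ∈ Set.range u := by
      rw [hu]; exact hxU
    obtain ⟨y, rfl⟩ := hx'
    have h1 : u y ∉ compl (𝓙.comap o) := fun h => h hx
    apply h1
    rw [compl_comap]
    intro h2
    refine Set.disjoint_left.mp h𝓙.2 h2 ?_
    rw [← Scheme.Hom.comp_apply, huo]
    exact ⟨y, rfl⟩
  · rw [Category.assoc, hoc, ← Category.assoc, ← pullback.condition, Category.assoc, hoq, Category.assoc]
  · rw [pullback.lift_fst_assoc, hub]
  · rw [pullback.lift_snd_assoc]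
  · have h3 := Scheme.image_preimage_eq_of_isPullback (IsPullback.of_hasPullback o c) Set.univ
    simp only [Set.preimage_univ, Set.image_univ] at h3
    rw [Scheme.Hom.comp_base, TopCat.coe_comp, Set.range_comp]
    refine (congrArg (Set.image oc) h3).trans ?_
    rw [hr]
    rfl

/-- **Glueing finitely many schemes along a common open.** -/
theorem exists_many {S U : Scheme.{u}} [CompactSpace S] [QuasiSeparatedSpace S]
    (gU : U ⟶ S) [IsSeparated gU] [QuasiCompact gU] [LocallyOfFiniteType gU] (n : ℕ) :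
    ∀ (X : Fin n → Scheme.{u}) (g : ∀ i, X i ⟶ S)
    (_ : ∀ i, IsSeparated (g i)) (_ : ∀ i, QuasiCompact (g i)) (_ : ∀ i, LocallyOfFiniteType (g i))
    (j : ∀ i, U ⟶ X i) (_ : ∀ i, IsOpenImmersion (j i)) (_ : ∀ i, j i ≫ g i = gU),
    ∃ (Xc : Scheme.{u}) (q : Xc ⟶ S) (_ : IsSeparated q) (_ : QuasiCompact q) (_ : LocallyOfFiniteType q)
      (jc : U ⟶ Xc) (_ : IsOpenImmersion jc) (_ : jc ≫ q = gU) (O : Fin n → Xc.Opens),
      (∀ i, Member q jc (O i) (g i) (j i)) ∧ ∀ x : Xc, x ∈ Set.range jc ∨ ∃ i, x ∈ O i := by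
  induction n with
  | zero =>
    intro X g _ _ _ j _ hj
    exact ⟨U, gU, inferInstance, inferInstance, inferInstance, 𝟙 U, inferInstance, Category.id_comp _,
      fun i => i.elim0, fun i => i.elim0, fun x => Or.inl ⟨x, rfl⟩⟩
  | succ n ih =>
    intro X g hgs hgc hgf j hjo hj
    obtain ⟨Xc, q, hqs, hqc, hqf, jc, hjc, hjcq, O, hO, hcov⟩ := ih (fun i => X i.succ) (fun i => g i.succ)
      (fun i => hgs _) (fun i => hgc _) (fun i => hgf _) (fun i => j i.succ) (fun i => hjo _) (fun i => hj _)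
    have := hgs 0
    have := hgc 0
    have := hgf 0
    have := hjo 0
    obtain ⟨Xh, qh, hhs, hhf, hhc, 𝓙, 𝓘₀, Xc', X₀', c, b₀, oc, o₀, uc, u₀, hcb, hcA, hb₀, ha₀, hoc, ho₀, hoq, ho₀q,
      huc, hu₀, huo, hcovh⟩ := exists_two gU q (g 0) jc (j 0) hjcq (hj 0)
    have huco : IsOpenImmersion uc := (K264.ProperQDom.isOpenImmersion_of_comp_blowUp jc hcb hcA uc huc).1
    refine ⟨Xh, qh, hhs, hhc, hhf, uc ≫ oc, inferInstance, ?_,
      Fin.cases o₀.opensRange (fun i => oc ''ᵁ (c ⁻¹ᵁ (O i))), ?_, ?_⟩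
    · rw [Category.assoc, hoq, ← Category.assoc, huc, hjcq]
    · intro i
      refine Fin.cases ?_ (fun i => ?_) i
      · exact ⟨𝓘₀, X₀', b₀, o₀, u₀, hb₀, ha₀, ho₀, ho₀q, hu₀, huo.symm, rfl⟩
      · have : CompactSpace (X i.succ) := by
          have := hgc i.succ
          exact QuasiCompact.compactSpace_of_compactSpace (g i.succ)
        have : QuasiSeparatedSpace (X i.succ) := by
          have := hgs i.succ
          exact quasiSeparatedSpace_of_quasiSeparated (g i.succ)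
        have := hjo i.succ
        exact (hO i).blowUp hcb hcA uc huc oc qh hoq
    · intro x
      rcases hcovh x with hx | hx
      · obtain ⟨y, rfl⟩ := hx
        rcases hcov (c y) with hy | ⟨i, hi⟩
        · left
          obtain ⟨-, hu⟩ := K264.ProperQDom.isOpenImmersion_of_comp_blowUp jc hcb hcA uc huc
          have hy' : y ∈ Set.range uc := by rw [hu]; exact hy
          obtain ⟨z, rfl⟩ := hy'
          exact ⟨z, rfl⟩
        · right
          exact ⟨i.succ, ⟨y, hi, rfl⟩⟩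
      · right
        exact ⟨0, hx⟩

theorem exists_cover
    {S U : Scheme.{u}} [CompactSpace S] [QuasiSeparatedSpace S] {n : ℕ}
    (gU : U ⟶ S) [IsSeparated gU] [QuasiCompact gU] [LocallyOfFiniteType gU]
    (X : Fin n → Scheme.{u}) (g : ∀ i, X i ⟶ S)
    [hgs : ∀ i, IsSeparated (g i)] [hgc : ∀ i, QuasiCompact (g i)] [hgf : ∀ i, LocallyOfFiniteType (g i)]
    (j : ∀ i, U ⟶ X i) [hjo : ∀ i, IsOpenImmersion (j i)] (hj : ∀ i, j i ≫ g i = gU) :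
    ∃ (Xc : Scheme.{u}) (q : Xc ⟶ S) (_ : IsSeparated q) (_ : QuasiCompact q) (_ : LocallyOfFiniteType q)
      (𝓘 : ∀ i, (X i).IdealSheafData) (X' : Fin n → Scheme.{u}) (b : ∀ i, X' i ⟶ X i)
      (o : ∀ i, X' i ⟶ Xc) (u : ∀ i, U ⟶ X' i),
      (∀ i, BlowUp.IsBlowUp (b i) (𝓘 i) ∧ BlowUp.IsAdmissibleFor (j i).opensRange (𝓘 i) ∧
        IsOpenImmersion (o i) ∧ o i ≫ q = b i ≫ g i ∧ u i ≫ b i = j i) ∧
      (⋃ i, Set.range (fun x => o i x)) = Set.univ ∧ (∀ i i', u i ≫ o i = u i' ≫ o i') := by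
  rcases Nat.eq_zero_or_pos n with rfl | hn
  · refine ⟨∅, Scheme.emptyTo S, inferInstance, inferInstance, inferInstance, fun i => i.elim0, fun i => i.elim0,
      fun i => i.elim0, fun i => i.elim0, fun i => i.elim0, fun i => i.elim0, ?_, fun i => i.elim0⟩
    exact Set.eq_univ_of_forall fun x => x.elim
  · obtain ⟨Xc, q, hqs, hqc, hqf, jc, hjc, hjcq, O, hO, hcov⟩ := exists_many gU n X g hgs hgc hgf j hjo hj
    choose 𝓘 X' b o u hb ha ho hoq hub huo hr using hO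
    refine ⟨Xc, q, hqs, hqc, hqf, 𝓘, X', b, o, u, fun i => ⟨hb i, ha i, ho i, hoq i, hub i⟩, ?_,
      fun i i' => (huo i).trans (huo i').symm⟩
    refine Set.eq_univ_of_forall fun x => ?_
    rw [Set.mem_iUnion]
    rcases hcov x with ⟨y, rfl⟩ | ⟨i, hi⟩
    · refine ⟨⟨0, hn⟩, u ⟨0, hn⟩ y, ?_⟩
      change (o ⟨0, hn⟩) (u ⟨0, hn⟩ y) = jc y
      rw [← Scheme.Hom.comp_apply, huo]
    · refine ⟨i, ?_⟩
      have : x ∈ Set.range (o i) := by rw [hr]; exact hi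
      exact this

end K264.GlueMany
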