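import Groth.Agent.Divis.CartierBasic
import Groth.Agent.Divis.CartierStalk
import Groth.Agent.Flat2C.StrictTr

/-!
# Inclusions of stalks of ideal sheaves spread out; powers of ideals on quasi-compact schemes
-/

set_option autoImplicit false
universe u

open CategoryTheory AlgebraicGeometry Limits TopologicalSpace

namespace K264.IdealNhd

open Groth.Agent.Divis.CartierBasic

variable {X : Scheme.{u}}

/-- An inclusion `K_z ≤ I_z` of stalks, with `K` of finite type, holds in a neighbourhood of `z`. -/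
theorem exists_nhd_le (K I : X.IdealSheafData) (hK : BlowUp.IsFiniteTypeIdeal K) (z : X)
    (h : stalkIdeal K z ≤ stalkIdeal I z) :
    ∃ N : X.Opens, z ∈ N ∧ ∀ y ∈ N, stalkIdeal K y ≤ stalkIdeal I y := by
  classical
  obtain ⟨U, hz⟩ := exists_affine z
  obtain ⟨s, hs⟩ := hK U
  have key : ∀ k ∈ K.ideal U, ∃ a : Γ(X, U.1), z ∈ X.basicOpen a ∧ a * k ∈ I.ideal U := by
    intro k hk
    let := X.presheaf.algebra_section_stalk (⟨z, hz⟩ : U.1)
    have hloc : IsLocalization.AtPrime (X.presheaf.stalk z) (U.2.primeIdealOf ⟨z, hz⟩).asIdeal :=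
      U.2.isLocalization_stalk ⟨z, hz⟩
    have h1 : algebraMap Γ(X, U.1) (X.presheaf.stalk z) k ∈
        (I.ideal U).map (algebraMap Γ(X, U.1) (X.presheaf.stalk z)) := by
      have h2 : algebraMap Γ(X, U.1) (X.presheaf.stalk z) k ∈ stalkIdeal K z := by
        rw [stalkIdeal_eq K U hz]
        exact Ideal.mem_map_of_mem _ hk
      have h3 := h h2
      rw [stalkIdeal_eq I U hz] at h3
      exact h3
    rw [IsLocalization.algebraMap_mem_map_algebraMap_iff
      (U.2.primeIdealOf ⟨z, hz⟩).asIdeal.primeCompl] at h1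
    obtain ⟨m, hm, hmk⟩ := h1
    refine ⟨m, ?_, hmk⟩
    rw [Scheme.mem_basicOpen _ _ _ hz]
    exact IsLocalization.map_units (X.presheaf.stalk z)
      (⟨m, hm⟩ : (U.2.primeIdealOf ⟨z, hz⟩).asIdeal.primeCompl)
  choose! a ha hak using key
  have hsK : ∀ k ∈ s, k ∈ K.ideal U := fun k hk => by rw [← hs]; exact Ideal.subset_span hk
  refine ⟨X.basicOpen (∏ k ∈ s, a k), ?_, fun y hy => ?_⟩
  · rw [Scheme.mem_basicOpen _ _ _ hz, map_prod]
    refine IsUnit.prod_iff.mpr fun k hk => ?_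
    exact (Scheme.mem_basicOpen _ _ _ hz).mp (ha k (hsK k hk))
  · have hyU : y ∈ U.1 := X.basicOpen_le _ hy
    rw [stalkIdeal_eq K U hyU, stalkIdeal_eq I U hyU, ← hs, Ideal.map_span, Ideal.span_le]
    rintro _ ⟨k, hk, rfl⟩
    rw [Scheme.mem_basicOpen _ _ _ hyU, map_prod, IsUnit.prod_iff] at hy
    have h1 : (X.presheaf.germ U.1 y hyU).hom (a k) * (X.presheaf.germ U.1 y hyU).hom k ∈
        (I.ideal U).map (X.presheaf.germ U.1 y hyU).hom := by
      rw [← map_mul]
      exact Ideal.mem_map_of_mem _ (hak k (hsK k hk))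
    exact (Ideal.unit_mul_mem_iff_mem _ (hy k hk)).mp h1

/-- On a quasi-compact scheme, if the support of `E` is contained in the support of the finite type ideal `D`, then
a power of `D` is contained in `E`. -/
theorem exists_pow_le [CompactSpace X] {D E : X.IdealSheafData} (hD : BlowUp.IsFiniteTypeIdeal D)
    (h : (E.support : Set X) ⊆ D.support) : ∃ n : ℕ, D ^ n ≤ E := by
  have h1 : ∀ x : X, ∃ n : ℕ, stalkIdeal D x ^ n ≤ stalkIdeal E x := by
    intro x
    have h1 : stalkIdeal D x ≤ (stalkIdeal E x).radical := by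
      rw [Ideal.radical_eq_sInf]
      refine le_sInf ?_
      rintro q ⟨hq, hqp⟩
      have h2 := (fromSpecStalk_mem_support_iff E x ⟨q, hqp⟩).2 hq
      exact (fromSpecStalk_mem_support_iff D x ⟨q, hqp⟩).1 (h h2)
    refine Ideal.exists_pow_le_of_le_radical_of_fg h1 ?_
    obtain ⟨U, hx⟩ := exists_affine x
    rw [stalkIdeal_eq D U hx]
    exact (hD U).map _
  choose n hn using h1
  have h2 : ∀ x : X, ∃ N : X.Opens, x ∈ N ∧ ∀ y ∈ N, stalkIdeal (D ^ n x) y ≤ stalkIdeal E y := by
    intro x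
    refine exists_nhd_le (D ^ n x) E (Groth.Agent.Flat2C.StrictTr.isFiniteTypeIdeal_pow hD _) x ?_
    rw [stalkIdeal_pow]
    exact hn x
  choose N hxN hN using h2
  obtain ⟨t, ht⟩ := CompactSpace.elim_nhds_subcover (fun x => (N x : Set X))
    (fun x => (N x).isOpen.mem_nhds (hxN x))
  refine ⟨t.sup n, le_of_stalkIdeal fun y => ?_⟩
  have hy : y ∈ (⊤ : Set X) := trivial
  rw [← ht, Set.mem_iUnion₂] at hy
  obtain ⟨x, hxt, hyx⟩ := hy
  have h3 := hN x y hyx
  rw [stalkIdeal_pow] at h3 ⊢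
  exact (Ideal.pow_le_pow_right (Finset.le_sup hxt)).trans h3

end K264.IdealNhd
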