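import Groth.Agent.S1281

/-!
# Proper quasi-dominations out of a common target
-/

set_option autoImplicit false
universe u

open CategoryTheory AlgebraicGeometry Limits TopologicalSpace

namespace K264.ProperQDom

open Groth.Agent.Flat2C.StrictTr Groth.Agent.Flat2C.StrictTr2

/-- The graph of a proper morphism into a scheme over `S` is closed if the ambient scheme is separated. -/
theorem isClosed_range_lift {S X Y W : Scheme.{u}} (q : X ⟶ S) (g : Y ⟶ S) [IsSeparated q] (i : W ⟶ X)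
    (p : W ⟶ Y) [IsProper p] (h : i ≫ q = p ≫ g) :
    IsClosed (Set.range (fun x => pullback.lift i p h x)) := by
  have h1 : IsProper (pullback.lift i p h) := by
    have : IsProper (pullback.lift i p h ≫ pullback.snd q g) := by
      rw [pullback.lift_snd]; infer_instance
    exact IsProper.of_comp _ (pullback.snd q g)
  exact (pullback.lift i p h).isClosedMap.isClosed_range

theorem aux {S X₀ U X₁ X₁' : Scheme.{u}} (q₀ : X₀ ⟶ S) [IsSeparated q₀] (j₀ : U ⟶ X₀) [QuasiCompact j₀]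
    (g₁ : X₁ ⟶ S) (b₁ : X₁' ⟶ X₁) [IsProper b₁] (o₁ : X₁' ⟶ X₀) [IsOpenImmersion o₁] (ho : o₁ ≫ q₀ = b₁ ≫ g₁)
    (u₁ : U ⟶ X₁') (hu : u₁ ≫ o₁ = j₀) :
    ∃ (W : j₀.image.Opens) (l : U ⟶ (W : Scheme.{u})) (p : (W : Scheme.{u}) ⟶ X₁)
      (hp : W.ι ≫ (j₀.imageι ≫ q₀) = p ≫ g₁), l ≫ W.ι = j₀.toImage ∧ l ≫ p = u₁ ≫ b₁ ∧ IsProper p ∧
        IsClosed (Set.range (fun x => pullback.lift W.ι p hp x)) := by
  let W : j₀.image.Opens := j₀.imageι ⁻¹ᵁ o₁.opensRange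
  have hr : Set.range j₀.toImage ⊆ Set.range W.ι := by
    rw [Scheme.Opens.range_ι]
    rintro _ ⟨x, rfl⟩
    change j₀.imageι (j₀.toImage x) ∈ o₁.opensRange
    rw [← Scheme.Hom.comp_apply, j₀.toImage_imageι, ← hu]
    exact ⟨u₁ x, rfl⟩
  let l : U ⟶ (W : Scheme.{u}) := IsOpenImmersion.lift W.ι j₀.toImage hr
  have hl : l ≫ W.ι = j₀.toImage := IsOpenImmersion.lift_fac _ _ _
  let s : (W : Scheme.{u}) ⟶ X₁' := (j₀.imageι ∣_ o₁.opensRange) ≫ o₁.isoOpensRange.inv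
  have hs : s ≫ o₁ = W.ι ≫ j₀.imageι := by
    simp only [s, Category.assoc, Scheme.Hom.isoOpensRange_inv_comp]
    exact morphismRestrict_ι _ _
  have hls : l ≫ s = u₁ := by
    rw [← cancel_mono o₁, Category.assoc, hs, ← Category.assoc, hl, j₀.toImage_imageι, hu]
  have hp : W.ι ≫ (j₀.imageι ≫ q₀) = (s ≫ b₁) ≫ g₁ := by
    rw [Category.assoc, ← ho, ← Category.assoc s, hs, Category.assoc]
  have hprop : IsProper (s ≫ b₁) := by
    dsimp only [s]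
    infer_instance
  refine ⟨W, l, s ≫ b₁, hp, hl, ?_, hprop, isClosed_range_lift _ _ _ _ _⟩
  rw [← Category.assoc, hls]

/-- a lift of an open immersion to an admissible blow-up is an open immersion -/
theorem isOpenImmersion_of_comp_blowUp {U X X' : Scheme.{u}} (j : U ⟶ X) [IsOpenImmersion j]
    {𝓘 : X.IdealSheafData} {b : X' ⟶ X} (hb : BlowUp.IsBlowUp b 𝓘) (h𝓘 : BlowUp.IsAdmissibleFor j.opensRange 𝓘)
    (u : U ⟶ X') (hu : u ≫ b = j) : IsOpenImmersion u ∧ Set.range u = b ⁻¹' (Set.range j) := by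
  have hle : j.opensRange ≤ compl 𝓘 := fun x hx hx' => Set.disjoint_left.mp h𝓘.2 hx' hx
  have hiso : IsIso (b ∣_ j.opensRange) := isIso_restrict_of_le_compl hb hle
  have hr : Set.range u ⊆ Set.range (b ⁻¹ᵁ j.opensRange).ι := by
    rw [Scheme.Opens.range_ι]
    rintro _ ⟨x, rfl⟩
    change b (u x) ∈ j.opensRange
    rw [← Scheme.Hom.comp_apply, hu]
    exact ⟨x, rfl⟩
  let v : U ⟶ (b ⁻¹ᵁ j.opensRange : X'.Opens) := IsOpenImmersion.lift (b ⁻¹ᵁ j.opensRange).ι u hr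
  have hv : v ≫ (b ⁻¹ᵁ j.opensRange).ι = u := IsOpenImmersion.lift_fac _ _ _
  have h1 : v ≫ (b ∣_ j.opensRange) = j.isoOpensRange.hom := by
    rw [← cancel_mono j.opensRange.ι, Category.assoc, morphismRestrict_ι, ← Category.assoc, hv, hu,
      Scheme.Hom.isoOpensRange_hom_ι]
  have h2 : IsIso v := by
    have : IsIso (v ≫ (b ∣_ j.opensRange)) := by rw [h1]; infer_instance
    exact IsIso.of_isIso_comp_right v (b ∣_ j.opensRange)
  have h3 : IsOpenImmersion u := by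
    rw [← hv]; infer_instance
  refine ⟨h3, Set.ext fun x => ?_⟩
  constructor
  · rintro ⟨y, rfl⟩
    have := hr ⟨y, rfl⟩
    rw [Scheme.Opens.range_ι] at this
    exact this
  · intro hx
    obtain ⟨y, hy⟩ := v.surjective ⟨x, hx⟩
    refine ⟨y, ?_⟩
    rw [← hv, Scheme.Hom.comp_apply, hy]
    rfl

theorem exists_target
    {S U X₁ X₂ : Scheme.{u}} [CompactSpace S] [QuasiSeparatedSpace S]
    (g₁ : X₁ ⟶ S) (g₂ : X₂ ⟶ S)
    [IsSeparated g₁] [QuasiCompact g₁] [LocallyOfFiniteType g₁]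
    [IsSeparated g₂] [QuasiCompact g₂] [LocallyOfFiniteType g₂]
    (j₁ : U ⟶ X₁) (j₂ : U ⟶ X₂) [IsOpenImmersion j₁] [IsOpenImmersion j₂]
    [CompactSpace U]
    (h : j₁ ≫ g₁ = j₂ ≫ g₂) :
    ∃ (X : Scheme.{u}) (q : X ⟶ S) (_ : IsSeparated q) (_ : QuasiCompact q) (_ : LocallyOfFiniteType q)
      (j : U ⟶ X) (_ : IsOpenImmersion j) (_ : IsSchemeTheoreticallyDominant j) (_ : j ≫ q = j₁ ≫ g₁),
      (∃ (W : X.Opens) (l : U ⟶ (W : Scheme.{u})) (p : (W : Scheme.{u}) ⟶ X₁) (hp : W.ι ≫ q = p ≫ g₁),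
        l ≫ W.ι = j ∧ l ≫ p = j₁ ∧ IsProper p ∧
        IsClosed (Set.range (fun x => pullback.lift W.ι p hp x))) ∧
      (∃ (W : X.Opens) (l : U ⟶ (W : Scheme.{u})) (p : (W : Scheme.{u}) ⟶ X₂) (hp : W.ι ≫ q = p ≫ g₂),
        l ≫ W.ι = j ∧ l ≫ p = j₂ ∧ IsProper p ∧
        IsClosed (Set.range (fun x => pullback.lift W.ι p hp x))) := by
  have hsep : IsSeparated (j₁ ≫ g₁) := inferInstance
  have hft : LocallyOfFiniteType (j₁ ≫ g₁) := inferInstance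
  have hqc : QuasiCompact (j₁ ≫ g₁) := inferInstance
  obtain ⟨X₀, q₀, hq₀s, hq₀f, hq₀c, 𝓘₁, 𝓘₂, X₁', X₂', b₁, b₂, o₁, o₂, u₁, u₂, hb₁, ha₁, hb₂, ha₂, ho₁, ho₂, hoq₁, hoq₂,
    hu₁, hu₂, huo⟩ := Groth.Agent.S1281.result (j₁ ≫ g₁) g₁ g₂ j₁ j₂ rfl h.symm
  have hX₀ : QuasiSeparatedSpace X₀ := quasiSeparatedSpace_of_quasiSeparated q₀
  have hu₁o := (isOpenImmersion_of_comp_blowUp j₁ hb₁ ha₁ u₁ hu₁).1
  have hp₁ : IsProper b₁ := Groth.Agent.Flat2C.BlowProper.isProper_of_isBlowUp hb₁ ha₁.1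
  have hp₂ : IsProper b₂ := Groth.Agent.Flat2C.BlowProper.isProper_of_isBlowUp hb₂ ha₂.1
  let j₀ : U ⟶ X₀ := u₁ ≫ o₁
  have hj₀ : IsOpenImmersion j₀ := by dsimp only [j₀]; infer_instance
  have hj₀q : QuasiCompact j₀ := inferInstance
  refine ⟨j₀.image, j₀.imageι ≫ q₀, inferInstance, inferInstance, inferInstance, j₀.toImage, inferInstance,
    Groth.Agent.Flat2C.GlueBlow.isSchemeTheoreticallyDominant_toImage j₀, ?_, ?_, ?_⟩
  · rw [j₀.toImage_imageι_assoc]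
    simp only [j₀, Category.assoc]
    rw [hoq₁, ← Category.assoc, hu₁]
  · obtain ⟨W, l, p, hp, h1, h2, h3, h4⟩ := aux q₀ j₀ g₁ b₁ o₁ hoq₁ u₁ rfl
    exact ⟨W, l, p, hp, h1, by rw [h2, hu₁], h3, h4⟩
  · obtain ⟨W, l, p, hp, h1, h2, h3, h4⟩ := aux q₀ j₀ g₂ b₂ o₂ hoq₂ u₂ huo.symm
    exact ⟨W, l, p, hp, h1, by rw [h2, hu₂], h3, h4⟩

end K264.ProperQDom
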