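import Groth.Agent.Flat2C.GlueBlow
import Groth.Agent.Flat2C.ClosureIso
import Groth.Agent.Flat2C.CompData

/-!
# Extension of a morphism to a quasi-domination after an admissible blow-up
-/

set_option autoImplicit false
universe u

open CategoryTheory AlgebraicGeometry Limits TopologicalSpace

namespace K264.QDom

open Groth.Agent.Flat2C.StrictTr Groth.Agent.Flat2C.StrictTr2 Groth.Agent.Flat2C.ClosureIso

/-- Let `φ : Z ⟶ X` be separated of finite type and an open immersion over the quasi-compact open `V`.  After a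
`V`-admissible blow-up `q : Xt ⟶ X` the strict transform of `Z` is an open subscheme `W` of `Xt`, proper over `Z`. -/
theorem exists_strict_open {X Z : Scheme.{u}} [CompactSpace X] [QuasiSeparatedSpace X] (φ : Z ⟶ X) [IsSeparated φ]
    [LocallyOfFiniteType φ] [QuasiCompact φ] (V : X.Opens) (hV : IsCompact (V : Set X)) [IsOpenImmersion (φ ∣_ V)] :
    ∃ (𝓘 : X.IdealSheafData), BlowUp.IsAdmissibleFor V 𝓘 ∧ (𝓘.support : Set X) = (V : Set X)ᶜ ∧
      ∀ (Xt : Scheme.{u}) (q : Xt ⟶ X), BlowUp.IsBlowUp q 𝓘 →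
      ∃ (W : Xt.Opens) (r : (W : Scheme.{u}) ⟶ Z), r ≫ φ = W.ι ≫ q ∧ BlowUp.IsBlowUp r (𝓘.comap φ) ∧
        ∀ t : Xt, q t ∈ V → (∃ z : Z, φ z = q t) → t ∈ W := by
  obtain ⟨𝓘, hadm, hsupp, hdom⟩ := Groth.Agent.Flat2C.DomOpen.exists_admissible_openImmersion φ V hV
  refine ⟨𝓘, hadm, hsupp, fun Xt q hq => ?_⟩
  have hft : BlowUp.IsFiniteTypeIdeal ((𝓘.comap φ).comap (pullback.fst φ q)) :=
    isFiniteTypeIdeal_comap (isFiniteTypeIdeal_comap hadm.1 φ) _
  let J := killedIdeal ((𝓘.comap φ).comap (pullback.fst φ q))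
  have hJ : IsKilledIdeal ((𝓘.comap φ).comap (pullback.fst φ q)) J := isKilledIdeal_killedIdeal hft
  let o : J.subscheme ⟶ Xt := J.subschemeι ≫ pullback.snd φ q
  let r : J.subscheme ⟶ Z := J.subschemeι ≫ pullback.fst φ q
  have ho : IsOpenImmersion o := hdom Xt q hq.1 _ _ _ (.of_hasPullback φ q) J hJ
  have hr : BlowUp.IsBlowUp r (𝓘.comap φ) := isBlowUp_strictTransform hq (.of_hasPullback φ q) hJ
  have hor : o ≫ q = r ≫ φ := by
    simp only [o, r, Category.assoc, pullback.condition]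
  refine ⟨o.opensRange, o.isoOpensRange.inv ≫ r, ?_, ?_, ?_⟩
  · rw [Category.assoc, ← hor, ← Category.assoc, Scheme.Hom.isoOpensRange_inv_comp]
  · exact Groth.Agent.Flat2C.BlowProper.isBlowUp_of_iso hr o.isoOpensRange.symm rfl
  · rintro t ht ⟨z, hz⟩
    obtain ⟨x', hx₁, hx₂⟩ := Scheme.exists_preimage_of_isPullback (IsPullback.of_hasPullback φ q) z t hz
    have h1 : x' ∈ compl ((𝓘.comap φ).comap (pullback.fst φ q)) := by
      rw [compl_comap, compl_comap]
      change φ (pullback.fst φ q x') ∈ compl 𝓘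
      rw [hx₁, hz]
      intro h
      exact Set.disjoint_left.mp hadm.2 h ht
    have h3 : x' ∈ Set.range J.subschemeι := by
      rw [J.range_subschemeι]
      exact compl_subset_support_killedIdeal hft h1
    obtain ⟨w, hw⟩ := h3
    refine ⟨w, ?_⟩
    change (J.subschemeι ≫ pullback.snd φ q) w = t
    rw [Scheme.Hom.comp_apply, hw, hx₂]

theorem exists_extension
    {S X Y : Scheme.{u}} [CompactSpace S] [QuasiSeparatedSpace S]
    [CompactSpace X] [QuasiSeparatedSpace X] [CompactSpace Y] [QuasiSeparatedSpace Y]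
    (pX : X ⟶ S) (pY : Y ⟶ S) [IsSeparated pY] [LocallyOfFiniteType pY]
    (U V : X.Opens) (hUV : U ≤ V) (hU : IsCompact (U : Set X)) (hV : IsCompact (V : Set X))
    (hUd : Dense (U : Set X))
    (f : (U : Scheme.{u}) ⟶ Y) (hf : U.ι ≫ pX = f ≫ pY)
    (hcl : closure (Set.range (fun x => pullback.lift U.ι f hf x)) ∩
        ((pullback.fst pX pY) ⁻¹ᵁ V : Set ↥(pullback pX pY)) ⊆ Set.range (fun x => pullback.lift U.ι f hf x)) :
    ∃ (𝓘 : X.IdealSheafData) (Xt : Scheme.{u}) (q : Xt ⟶ X),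
      BlowUp.IsBlowUp q 𝓘 ∧ BlowUp.IsAdmissibleFor V 𝓘 ∧
      ∃ (W : Xt.Opens) (hle : q ⁻¹ᵁ U ≤ W) (ft : (W : Scheme.{u}) ⟶ Y) (hft : W.ι ≫ q ≫ pX = ft ≫ pY),
        Dense (W : Set Xt) ∧ Xt.homOfLE hle ≫ ft = (q ∣_ U) ≫ f ∧
        IsClosed (Set.range (fun x => pullback.lift W.ι ft hft x)) := by
  have hqcY : QuasiCompact pY := inferInstance
  have hUc : CompactSpace (U : Scheme.{u}) := isCompact_iff_compactSpace.1 hU
  let γ : (U : Scheme.{u}) ⟶ pullback pX pY := pullback.lift U.ι f hf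
  have hγ : γ ≫ pullback.fst pX pY = U.ι := pullback.lift_fst _ _ _
  have hγi : IsImmersion γ := by
    have : IsImmersion (γ ≫ pullback.fst pX pY) := by rw [hγ]; infer_instance
    exact IsImmersion.of_comp γ (pullback.fst pX pY)
  have hγq : QuasiCompact γ := by
    have : QuasiCompact (γ ≫ pullback.fst pX pY) := by rw [hγ]; infer_instance
    exact QuasiCompact.of_comp γ (pullback.fst pX pY)
  let Q : (pullback pX pY).Opens := pullback.fst pX pY ⁻¹ᵁ V
  have hrQ : Set.range γ ⊆ Set.range Q.ι := by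
    rw [Scheme.Opens.range_ι]
    rintro _ ⟨x, rfl⟩
    change pullback.fst pX pY (γ x) ∈ V
    rw [← Scheme.Hom.comp_apply, hγ]
    exact hUV x.2
  let c' : (U : Scheme.{u}) ⟶ Q := IsOpenImmersion.lift Q.ι γ hrQ
  have hc' : c' ≫ Q.ι = γ := IsOpenImmersion.lift_fac _ _ _
  have hc'i : IsPreimmersion c' := by
    have : IsPreimmersion (c' ≫ Q.ι) := by rw [hc']; infer_instance
    exact IsPreimmersion.of_comp c' Q.ι
  have hclosed : IsClosed (Set.range c') := by
    have e : Set.range c' = Q.ι ⁻¹' (closure (Set.range γ)) := by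
      ext y
      constructor
      · rintro ⟨x, rfl⟩
        refine subset_closure ⟨x, ?_⟩
        rw [← hc']
        rfl
      · intro hy
        obtain ⟨x, hx⟩ := hcl ⟨hy, y.2⟩
        refine ⟨x, Subtype.ext ?_⟩
        change Q.ι (c' x) = _
        rw [← Scheme.Hom.comp_apply, hc']
        exact hx
    rw [e]
    exact isClosed_closure.preimage Q.ι.continuous
  have hc'cl : IsClosedImmersion c' := .of_isPreimmersion c' hclosed
  obtain ⟨hopen, hrange⟩ := Groth.Agent.Flat2C.GlueBlow.isOpenImmersion_toImage γ Q c' hc'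
  let φ : γ.image ⟶ X := γ.imageι ≫ pullback.fst pX pY
  have hφ : γ.toImage ≫ φ = U.ι := by
    rw [← Category.assoc, γ.toImage_imageι, hγ]
  have hφo : IsOpenImmersion (γ.toImage ≫ φ) := by rw [hφ]; infer_instance
  have hφV : IsOpenImmersion (φ ∣_ V) :=
    Groth.Agent.Flat2C.GlueBlow.isOpenImmersion_restrict φ V γ.toImage hrange
  obtain ⟨𝓘, hadm, hsupp, H⟩ := exists_strict_open φ V hV
  obtain ⟨Xt, q, hq⟩ := Groth.Agent.Flat2C.BlowExist.exists_isBlowUp 𝓘
  obtain ⟨W, r, hr, hrb, hW⟩ := H Xt q hq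
  have hqp : IsProper q := Groth.Agent.Flat2C.BlowProper.isProper_of_isBlowUp hq hadm.1
  have hrp : IsProper r := Groth.Agent.Flat2C.BlowProper.isProper_of_isBlowUp hrb
    (isFiniteTypeIdeal_comap hadm.1 φ)
  have hle : q ⁻¹ᵁ U ≤ W := by
    intro t ht
    refine hW t (hUV ht) ⟨γ.toImage ⟨q t, ht⟩, ?_⟩
    rw [← Scheme.Hom.comp_apply, hφ]
    rfl
  let ft : (W : Scheme.{u}) ⟶ Y := r ≫ γ.imageι ≫ pullback.snd pX pY
  have hft : W.ι ≫ q ≫ pX = ft ≫ pY := by
    rw [← Category.assoc W.ι, ← hr]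
    simp only [φ, ft, Category.assoc, pullback.condition]
  refine ⟨𝓘, Xt, q, hq, hadm, W, hle, ft, hft, ?_, ?_, ?_⟩
  · exact (Groth.Agent.Flat2C.CompData.dense_preimage_blowUp hq U hUd).mono hle
  · have key : Xt.homOfLE hle ≫ r = (q ∣_ U) ≫ γ.toImage := by
      refine eq_of_mono_restrict (φ := φ) V ?_ ?_
      · rw [Category.assoc, hr, Category.assoc, hφ, morphismRestrict_ι, Scheme.homOfLE_ι_assoc]
      · intro t
        rw [← Scheme.Hom.comp_apply, Category.assoc, hr, Scheme.homOfLE_ι_assoc]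
        exact hUV t.2
    dsimp only [ft]
    rw [← Category.assoc, key, Category.assoc, γ.toImage_imageι_assoc, pullback.lift_snd]
  · let k : pullback (q ≫ pX) pY ⟶ pullback pX pY :=
      pullback.lift (pullback.fst _ _ ≫ q) (pullback.snd _ _) (by rw [Category.assoc, pullback.condition])
    have hk : pullback.lift W.ι ft hft ≫ k = r ≫ γ.imageι := by
      apply pullback.hom_ext
      · rw [Category.assoc, pullback.lift_fst, pullback.lift_fst_assoc, ← hr, Category.assoc]
      · rw [Category.assoc, pullback.lift_snd, pullback.lift_snd, Category.assoc]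
    have hks : IsSeparated k := by
      have : IsSeparated (k ≫ pullback.fst pX pY) := by
        rw [pullback.lift_fst]
        infer_instance
      exact IsSeparated.of_comp k (pullback.fst pX pY)
    have hp : IsProper (pullback.lift W.ι ft hft) := by
      have : IsProper (pullback.lift W.ι ft hft ≫ k) := by
        rw [hk]; infer_instance
      exact IsProper.of_comp _ k
    exact (pullback.lift W.ι ft hft).isClosedMap.isClosed_range

end K264.QDom
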