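import Groth.Agent.FlatMor.K264.ProperQDom
import Groth.Agent.Flat2C.TorsIdeal

/-!
# The open domain of a quasi-domination into a quasi-dominating scheme is a blow-up
-/

set_option autoImplicit false
universe u

open CategoryTheory AlgebraicGeometry Limits TopologicalSpace

namespace K264.QDomBlow

open Groth.Agent.Flat2C.StrictTr Groth.Agent.Flat2C.StrictTr2

/-- A morphism which factors through a closed subscheme after precomposition with a schematically dominant morphism
factors through that closed subscheme. -/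
theorem exists_factor {A T P W : Scheme.{u}} (i : A ⟶ T) [IsSchemeTheoreticallyDominant i] (f : T ⟶ P) (c : W ⟶ P)
    [IsClosedImmersion c] (a : A ⟶ W) (h : a ≫ c = i ≫ f) : ∃ k : T ⟶ W, k ≫ c = f := by
  let s : A ⟶ pullback c f := pullback.lift a i h
  have hs : s ≫ pullback.snd c f = i := pullback.lift_snd _ _ _
  have hker : (pullback.snd c f).ker = ⊥ := by
    rw [eq_bot_iff]
    refine (Scheme.Hom.le_ker_comp s (pullback.snd c f)).trans ?_
    rw [hs, i.ker_eq_bot]
  have hiso : IsIso (pullback.snd c f) := IsClosedImmersion.isIso_iff_ker_eq_bot.2 hker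
  refine ⟨inv (pullback.snd c f) ≫ pullback.fst c f, ?_⟩
  rw [Category.assoc, pullback.condition, IsIso.inv_hom_id_assoc]

/-- A schematically dominant quasi-compact morphism which factors through an open is schematically dominant into it. -/
theorem dominant_of_comp_ι {A T : Scheme.{u}} (W : T.Opens) (a : A ⟶ (W : Scheme.{u})) (i : A ⟶ T)
    [IsSchemeTheoreticallyDominant i] [QuasiCompact i] (h : a ≫ W.ι = i) : IsSchemeTheoreticallyDominant a := by
  have hpb : IsPullback (𝟙 A) a i W.ι := by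
    refine ⟨⟨by rw [Category.id_comp, h]⟩, ⟨PullbackCone.IsLimit.mk _ (fun s => s.fst) (fun s => by simp) ?_ ?_⟩⟩
    · intro s
      rw [← cancel_mono W.ι, Category.assoc, h, s.condition]
    · intro s m h _
      simpa using h
  exact IsSchemeTheoreticallyDominant.of_isPullback hpb

theorem isImmersion_of_fst {S X Y W : Scheme.{u}} (q : X ⟶ S) (g : Y ⟶ S) (i : W ⟶ X) [IsImmersion i]
    (p : W ⟶ Y) (h : i ≫ q = p ≫ g) : IsImmersion (pullback.lift i p h) := by
  have : IsImmersion (pullback.lift i p h ≫ pullback.fst q g) := by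
    rw [pullback.lift_fst]; infer_instance
  exact IsImmersion.of_comp _ (pullback.fst q g)

theorem isBlowUp_and_closed
    {S U X Y Xt : Scheme.{u}} [CompactSpace S] [QuasiSeparatedSpace S]
    (gX : X ⟶ S) (gY : Y ⟶ S)
    [IsSeparated gX] [QuasiCompact gX] [LocallyOfFiniteType gX]
    [IsSeparated gY] [QuasiCompact gY] [LocallyOfFiniteType gY]
    (jX : U ⟶ X) [IsOpenImmersion jX] [CompactSpace U]
    (V : Y.Opens)
    (jV : U ⟶ (V : Scheme.{u})) [IsOpenImmersion jV] [IsSchemeTheoreticallyDominant jV]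
    (φ : (V : Scheme.{u}) ⟶ X) (hφU : jV ≫ φ = jX) (hφ : V.ι ≫ gY = φ ≫ gX)
    (hφcl : IsClosed (Set.range (fun x => pullback.lift V.ι φ hφ x)))
    (𝓘 : X.IdealSheafData) (h𝓘 : BlowUp.IsAdmissibleFor jX.opensRange 𝓘)
    (b : Xt ⟶ X) (hb : BlowUp.IsBlowUp b 𝓘)
    (W : Xt.Opens) (u : U ⟶ (W : Scheme.{u})) (hu : u ≫ W.ι ≫ b = jX)
    [IsSchemeTheoreticallyDominant (u ≫ W.ι)]
    (ψ : (W : Scheme.{u}) ⟶ (V : Scheme.{u})) (hψU : u ≫ ψ = jV)
    (hψ : W.ι ≫ b ≫ gX = ψ ≫ V.ι ≫ gY)
    (hψcl : IsClosed (Set.range (fun x => pullback.lift W.ι ψ hψ x))) :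
    BlowUp.IsBlowUp ψ (𝓘.comap φ) ∧
      IsClosed (Set.range (fun x => pullback.lift (f := b ≫ gX) (g := gY) W.ι (ψ ≫ V.ι)
        (hψ.trans (Category.assoc ψ V.ι gY).symm) x)) := by
  have hXqs : QuasiSeparatedSpace X := quasiSeparatedSpace_of_quasiSeparated gX
  have hYqs : QuasiSeparatedSpace Y := quasiSeparatedSpace_of_quasiSeparated gY
  have hbs : IsSeparated b := Groth.Agent.Flat2C.BlowProper.isSeparated_of_isBlowUp hb
  have hbp : IsProper b := Groth.Agent.Flat2C.BlowProper.isProper_of_isBlowUp hb h𝓘.1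
  have hXtqs : QuasiSeparatedSpace Xt := quasiSeparatedSpace_of_quasiSeparated b
  have hVqs : QuasiSeparatedSpace (V : Scheme.{u}) := quasiSeparatedSpace_of_quasiSeparated V.ι
  have huq : QuasiCompact (u ≫ W.ι) := inferInstance
  have hjVq : QuasiCompact jV := inferInstance
  have hud : IsSchemeTheoreticallyDominant u := dominant_of_comp_ι W u _ rfl
  -- the two morphisms to `X` agree
  have hψφ : ψ ≫ φ = W.ι ≫ b := by
    refine Groth.Agent.Flat2C.TorsIdeal.ext_of_isSchemeTheoreticallyDominant gX ?_ u ?_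
    · rw [Category.assoc, ← hφ, ← hψ, Category.assoc]
    · rw [← Category.assoc, hψU, hφU, hu]
  -- the graph of `ψ` is a closed immersion
  have hΓψp : IsImmersion (pullback.lift W.ι ψ hψ) := isImmersion_of_fst _ _ _ _ _
  have hΓψ : IsClosedImmersion (pullback.lift W.ι ψ hψ) := .of_isPreimmersion _ hψcl
  have hΓφp : IsImmersion (pullback.lift V.ι φ hφ) := isImmersion_of_fst _ _ _ _ _
  have hΓφ : IsClosedImmersion (pullback.lift V.ι φ hφ) := .of_isPreimmersion _ hφcl
  have hjc : ∀ x : U, jX x ∈ compl 𝓘 := fun x hx => Set.disjoint_left.mp h𝓘.2 hx ⟨x, rfl⟩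
  -- the part of `V` outside the centre
  let V₀ : (V : Scheme.{u}).Opens := φ ⁻¹ᵁ compl 𝓘
  obtain ⟨κ, hκ, -⟩ := existsUnique_lift_of_mem_compl hb (V₀.ι ≫ φ) (fun t => t.2)
  change κ ≫ b = V₀.ι ≫ φ at hκ
  have hδ : κ ≫ b ≫ gX = V₀.ι ≫ V.ι ≫ gY := by
    rw [← Category.assoc, hκ, Category.assoc, ← hφ]
  let δ : (V₀ : Scheme.{u}) ⟶ pullback (b ≫ gX) (V.ι ≫ gY) := pullback.lift κ V₀.ι hδ
  have hrj : Set.range jV ⊆ Set.range V₀.ι := by
    rw [Scheme.Opens.range_ι]
    rintro _ ⟨x, rfl⟩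
    change φ (jV x) ∈ compl 𝓘
    rw [← Scheme.Hom.comp_apply, hφU]
    exact hjc x
  let jV₀ : U ⟶ (V₀ : Scheme.{u}) := IsOpenImmersion.lift V₀.ι jV hrj
  have hjV₀ : jV₀ ≫ V₀.ι = jV := IsOpenImmersion.lift_fac _ _ _
  have hjV₀d : IsSchemeTheoreticallyDominant jV₀ := dominant_of_comp_ι V₀ jV₀ jV hjV₀
  obtain ⟨χ, hχ⟩ := exists_factor jV₀ δ (pullback.lift W.ι ψ hψ) u (by
    apply pullback.hom_ext
    · rw [Category.assoc, pullback.lift_fst, Category.assoc, pullback.lift_fst]
      refine (existsUnique_lift_of_mem_compl hb jX hjc).unique ?_ ?_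
      · rw [Category.assoc, hu]
      · rw [Category.assoc, hκ, ← Category.assoc, hjV₀, hφU]
    · rw [Category.assoc, pullback.lift_snd, Category.assoc, pullback.lift_snd, hjV₀, hψU])
  have hχψ : χ ≫ ψ = V₀.ι := by
    have h1 : (χ ≫ pullback.lift W.ι ψ hψ) ≫ pullback.snd _ _ = δ ≫ pullback.snd _ _ := by rw [hχ]
    rw [Category.assoc, pullback.lift_snd, pullback.lift_snd] at h1
    exact h1
  have hχκ : χ ≫ W.ι = κ := by
    have h1 : (χ ≫ pullback.lift W.ι ψ hψ) ≫ pullback.fst _ _ = δ ≫ pullback.fst _ _ := by rw [hχ]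
    rw [Category.assoc, pullback.lift_fst, pullback.lift_fst] at h1
    exact h1
  have hblow : BlowUp.IsBlowUp ψ (𝓘.comap φ) := by
    refine ⟨?_, fun T g hg => ?_⟩
    · rw [← Scheme.IdealSheafData.comap_comp, hψφ, Scheme.IdealSheafData.comap_comp]
      exact Groth.Agent.Divis.EffCartier.isEff_comap_flat hb.1 _
    · rw [← Scheme.IdealSheafData.comap_comp] at hg
      obtain ⟨h₀, hh₀, huniq⟩ := hb.2 T (g ≫ φ) hg
      change h₀ ≫ b = g ≫ φ at hh₀
      have hθ : h₀ ≫ b ≫ gX = g ≫ V.ι ≫ gY := by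
        rw [← Category.assoc, hh₀, Category.assoc, ← hφ]
      have hdom : IsSchemeTheoreticallyDominant (compl (𝓘.comap (g ≫ φ))).ι :=
        Groth.Agent.Flat2C.TorsIdeal.isSchemeTheoreticallyDominant_compl hg
      have hT : compl (𝓘.comap (g ≫ φ)) = g ⁻¹ᵁ V₀ := by
        rw [compl_comap]
        rfl
      have hrg : Set.range ((compl (𝓘.comap (g ≫ φ))).ι ≫ g) ⊆ Set.range V₀.ι := by
        rw [Scheme.Opens.range_ι]
        rintro _ ⟨x, rfl⟩
        have h1 : x.1 ∈ g ⁻¹ᵁ V₀ := by rw [← hT]; exact x.2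
        exact h1
      let g₀ := IsOpenImmersion.lift V₀.ι ((compl (𝓘.comap (g ≫ φ))).ι ≫ g) hrg
      have hg₀ : g₀ ≫ V₀.ι = (compl (𝓘.comap (g ≫ φ))).ι ≫ g := IsOpenImmersion.lift_fac _ _ _
      obtain ⟨h, hh⟩ := exists_factor (compl (𝓘.comap (g ≫ φ))).ι (pullback.lift h₀ g hθ)
        (pullback.lift W.ι ψ hψ) (g₀ ≫ χ) (by
          rw [Category.assoc, hχ]
          apply pullback.hom_ext
          · rw [Category.assoc, pullback.lift_fst, Category.assoc, pullback.lift_fst]
            refine (existsUnique_lift_of_mem_compl hb ((compl (𝓘.comap (g ≫ φ))).ι ≫ g ≫ φ) ?_).unique ?_ ?_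
            · intro t
              have h1 : t.1 ∈ g ⁻¹ᵁ V₀ := by rw [← hT]; exact t.2
              exact h1
            · rw [Category.assoc, hκ, ← Category.assoc, hg₀, Category.assoc]
            · rw [Category.assoc, hh₀]
          · rw [Category.assoc, pullback.lift_snd, Category.assoc, pullback.lift_snd, hg₀])
      have hhψ : h ≫ ψ = g := by
        have h1 : (h ≫ pullback.lift W.ι ψ hψ) ≫ pullback.snd _ _ = pullback.lift h₀ g hθ ≫ pullback.snd _ _ := by
          rw [hh]
        rw [Category.assoc, pullback.lift_snd, pullback.lift_snd] at h1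
        exact h1
      have hhW : h ≫ W.ι = h₀ := by
        have h1 : (h ≫ pullback.lift W.ι ψ hψ) ≫ pullback.fst _ _ = pullback.lift h₀ g hθ ≫ pullback.fst _ _ := by
          rw [hh]
        rw [Category.assoc, pullback.lift_fst, pullback.lift_fst] at h1
        exact h1
      refine ⟨h, hhψ, fun h' hh' => ?_⟩
      change h' ≫ ψ = g at hh'
      rw [← cancel_mono W.ι, hhW]
      refine huniq (h' ≫ W.ι) ?_
      change (h' ≫ W.ι) ≫ b = g ≫ φ
      rw [Category.assoc, ← hψφ, ← Category.assoc, hh']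
  refine ⟨hblow, ?_⟩
  have hψp : IsProper ψ := Groth.Agent.Flat2C.BlowProper.isProper_of_isBlowUp hblow (isFiniteTypeIdeal_comap h𝓘.1 φ)
  let Γ : (W : Scheme.{u}) ⟶ pullback (b ≫ gX) gY := pullback.lift (f := b ≫ gX) (g := gY) W.ι (ψ ≫ V.ι)
    (hψ.trans (Category.assoc ψ V.ι gY).symm)
  let k : pullback (b ≫ gX) gY ⟶ pullback gY gX :=
    pullback.lift (pullback.snd _ _) (pullback.fst _ _ ≫ b) (by rw [Category.assoc, ← pullback.condition])
  have hk : Γ ≫ k = ψ ≫ pullback.lift V.ι φ hφ := by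
    apply pullback.hom_ext
    · rw [Category.assoc, pullback.lift_fst, pullback.lift_snd, Category.assoc, pullback.lift_fst]
    · rw [Category.assoc, pullback.lift_snd, pullback.lift_fst_assoc, Category.assoc, pullback.lift_snd, hψφ]
  have hks : IsSeparated k := by
    have : IsSeparated (k ≫ pullback.fst gY gX) := by
      rw [pullback.lift_fst]
      infer_instance
    exact IsSeparated.of_comp k (pullback.fst gY gX)
  have hp : IsProper Γ := by
    have : IsProper (Γ ≫ k) := by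
      rw [hk]; infer_instance
    exact IsProper.of_comp _ k
  exact Γ.isClosedMap.isClosed_range

end K264.QDomBlow
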