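import Groth.Agent.FlatMor.K264.RedFib

/-!
# Numbers of irreducible components of fibres: flat closed morphisms to a trait with reduced special fibre
-/

set_option autoImplicit false
universe u

open CategoryTheory AlgebraicGeometry Limits TopologicalSpace IsLocalRing

namespace K264.RedCount

theorem irreducibleComponent_eq {F : Type*} [TopologicalSpace F] [QuasiSober F] (x : F)
    (hx : ∀ z, z ⤳ x → z = x) : irreducibleComponent x = closure {x} := by
  obtain ⟨g, hg⟩ := QuasiSober.sober (isIrreducible_irreducibleComponent (x := x)) isClosed_irreducibleComponent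
  have h1 : g ⤳ x := by
    rw [specializes_iff_mem_closure, hg.def]
    exact mem_irreducibleComponent
  rw [← hx g h1, hg.def, hx g h1]

theorem eq_of_specializes {F : Type*} [TopologicalSpace F] [T0Space F] {T : Set F} (hT : T ∈ irreducibleComponents F)
    {ξ z : F} (hξ : IsGenericPoint ξ T) (h : z ⤳ ξ) : z = ξ := by
  have h1 : T ⊆ closure {z} := by
    rw [← hξ.def]
    exact h.closure_subset
  have h2 : closure {z} = T :=
    (hT.eq_of_le isIrreducible_singleton.closure h1).symm
  have h3 : IsGenericPoint z T := h2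
  exact h3.eq hξ

/-- A surjection of (quasi-sober T0) spaces cannot increase the number of irreducible components. -/
theorem encard_le_of_surjective {Z W : Type*} [TopologicalSpace Z] [TopologicalSpace W] [QuasiSober Z]
    [QuasiSober W] [T0Space W] (h : Z → W) (hc : Continuous h) (hs : Function.Surjective h) :
    (irreducibleComponents W).encard ≤ (irreducibleComponents Z).encard := by
  classical
  have H : ∀ T : Set W, T ∈ irreducibleComponents W → ∃ C : Set Z, C ∈ irreducibleComponents Z ∧
      closure (h '' C) = T := by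
    intro T hT
    obtain ⟨ξ, hξ⟩ := QuasiSober.sober hT.1 (isClosed_of_mem_irreducibleComponents T hT)
    obtain ⟨w, hw⟩ := hs ξ
    refine ⟨irreducibleComponent w, irreducibleComponent_mem_irreducibleComponents w, ?_⟩
    obtain ⟨g, hg⟩ := QuasiSober.sober (isIrreducible_irreducibleComponent (x := w)) isClosed_irreducibleComponent
    have h1 : g ⤳ w := by
      rw [specializes_iff_mem_closure, hg.def]
      exact mem_irreducibleComponent
    have h2 : h g = ξ := eq_of_specializes hT hξ (by rw [← hw]; exact h1.map hc)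
    have h3 := hg.image hc
    rw [h2] at h3
    rw [← h3.def, hξ.def]
  choose! φ hφ1 hφ2 using H
  refine Set.encard_le_encard_of_injOn (f := φ) (fun T hT => hφ1 T hT) ?_
  intro T hT T' hT' he
  rw [← hφ2 T hT, ← hφ2 T' hT', he]

variable {X Y : Scheme.{u}}

/-- The number of irreducible components of the fibre at a maximal point `y'` is at most the one of the reduced
special fibre at `y`. -/
theorem count_le (f : X ⟶ Y) [Flat f] [IsLocallyNoetherian X] (hcl : IsClosedMap f) (y' y : Y) (h : y' ⤳ y)
    (hy' : ∀ z, z ⤳ y' → z = y') [IsDomain (Y.presheaf.stalk y)] [IsDiscreteValuationRing (Y.presheaf.stalk y)]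
    (hred : IsReduced (f.fiber y)) {F' : Scheme.{u}} (a : F' ⟶ X) (ha : Topology.IsEmbedding a)
    (har : Set.range a = f ⁻¹' {y'}) :
    (irreducibleComponents F').encard ≤ (irreducibleComponents (f.fiber y)).encard := by
  classical
  have H : ∀ T : irreducibleComponents F', ∃ (C : irreducibleComponents (f.fiber y)) (x' : f.fiber y) (ξ : F'),
      C.1 = closure {x'} ∧ IsGenericPoint ξ T.1 ∧
        a ξ ⤳ f.fiberι y x' ∧ (∀ z, z ⤳ a ξ → z = a ξ) ∧
        ∀ ξ', ξ' ⤳ f.fiberι y x' → (∀ z, z ⤳ ξ' → z = ξ') → ξ' = a ξ := by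
    rintro ⟨T, hT⟩
    obtain ⟨ξ, hξ⟩ := QuasiSober.sober hT.1 (isClosed_of_mem_irreducibleComponents T hT)
    have hfξ : f (a ξ) = y' := by
      have : a ξ ∈ f ⁻¹' {y'} := by rw [← har]; exact ⟨ξ, rfl⟩
      exact this
    have hgen : ∀ z, z ⤳ a ξ → z = a ξ := by
      intro z hz
      have h1 : f z = y' := hy' _ (by rw [← hfξ]; exact hz.map f.continuous)
      have h2 : z ∈ Set.range a := by rw [har]; exact h1
      obtain ⟨z', rfl⟩ := h2
      rw [eq_of_specializes hT hξ (ha.isInducing.specializes_iff.mp hz)]
    -- the closure of `a ξ` meets the special fibre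
    have h1 : y ∈ f '' closure {a ξ} := by
      have hc : IsClosed (f '' closure {a ξ}) := hcl _ isClosed_closure
      have h2 : y' ∈ f '' closure {a ξ} := ⟨a ξ, subset_closure rfl, hfξ⟩
      exact h.mem_closed hc h2
    obtain ⟨x₀, hx₀, hfx₀⟩ := h1
    obtain ⟨x, hx1, hx2, hx3⟩ := RedFib.exists_point f (specializes_iff_mem_closure.mpr hx₀)
    rw [hfx₀] at hx2 hx3
    have hx2' : x ∈ Set.range (f.fiberι y) := by rw [f.range_fiberι]; exact hx2
    obtain ⟨x', hx'⟩ := hx2'
    obtain ⟨k1, k2⟩ := RedFib.key' f x y hx2 hred (a ξ) hx1 hgen hx3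
    have hx'max : ∀ z, z ⤳ x' → z = x' := by
      intro z hz
      have h2 : f.fiberι y z ⤳ x := by rw [← hx']; exact hz.map (f.fiberι y).continuous
      have h3 : f (f.fiberι y z) = y := by
        have : f.fiberι y z ∈ f ⁻¹' {y} := by rw [← f.range_fiberι]; exact ⟨z, rfl⟩
        exact this
      have h4 := k1 _ h2 h3
      rw [← hx'] at h4
      exact (f.fiberι y).isEmbedding.injective h4
    exact ⟨⟨irreducibleComponent x', irreducibleComponent_mem_irreducibleComponents x'⟩, x', ξ,
      irreducibleComponent_eq x' hx'max, hξ, by rw [hx']; exact hx1, hgen, by rw [hx']; exact k2⟩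
  choose φ x' ξ hφ2 hφ3 hφ4 hφ5 hφ6 using H
  refine ENat.card_le_card_of_injective (f := φ) ?_
  intro T T' he
  have h1 : x' T = x' T' := by
    have h2 : closure {x' T} = closure {x' T'} := by rw [← hφ2 T, ← hφ2 T', he]
    exact (inseparable_iff_closure_eq.mpr h2).eq
  have h2 : a (ξ T) = a (ξ T') := by
    apply hφ6 T'
    · rw [← h1]; exact hφ4 T
    · exact hφ5 T
  have h3 : ξ T = ξ T' := ha.injective h2
  apply Subtype.ext
  rw [← (hφ3 T).def, ← (hφ3 T').def, h3]

end K264.RedCount
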