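import Mathlib.RingTheory.Ideal.AssociatedPrime.Localization
import Mathlib.RingTheory.Filtration
import Mathlib.RingTheory.Nakayama
import Mathlib.RingTheory.Ideal.MinimalPrime.Localization

/-!
# Local rings with a nonzerodivisor generating a radical ideal
-/

set_option autoImplicit false
universe u

namespace K264.RedDvrAlg

open IsLocalRing

variable {O : Type u} [CommRing O] [IsLocalRing O] [IsNoetherianRing O] {t : O}

theorem exists_not_mem (ht : t ∈ maximalIdeal O) {a : O} (ha : a ≠ 0) :
    ∃ (n : ℕ) (b : O), a = t ^ n * b ∧ b ∉ Ideal.span {t} := by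
  classical
  have h1 : ∃ n : ℕ, a ∉ (Ideal.span {t}) ^ n := by
    by_contra hc
    push Not at hc
    have h2 : a ∈ ⨅ n : ℕ, (Ideal.span {t}) ^ n := by
      rw [Submodule.mem_iInf]
      exact hc
    rw [Ideal.iInf_pow_eq_bot_of_isLocalRing _ (by
      rw [Ne, Ideal.span_singleton_eq_top]
      exact (mem_maximalIdeal t).mp ht)] at h2
    exact ha h2
  have h3 := Nat.find_spec h1
  have h4 : Nat.find h1 ≠ 0 := by
    intro h
    rw [h, pow_zero, Ideal.one_eq_top] at h3
    exact h3 trivial
  obtain ⟨m, hm⟩ := Nat.exists_eq_succ_of_ne_zero h4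
  have h5 : a ∈ (Ideal.span {t}) ^ m := by
    by_contra hc
    have := Nat.find_min' h1 hc
    omega
  rw [Ideal.span_singleton_pow, Ideal.mem_span_singleton] at h5
  obtain ⟨b, hb⟩ := h5
  refine ⟨m, b, hb, fun hbt => h3 ?_⟩
  rw [hm, Ideal.span_singleton_pow, Ideal.mem_span_singleton, hb, pow_succ]
  exact mul_dvd_mul_left _ (Ideal.mem_span_singleton.mp hbt)

/-- If the closed point is a maximal point of `V(p) ∩ V(t)`, `p` a minimal prime, then it is one of `V(t)`. -/
theorem eq_maximalIdeal (ht : t ∈ maximalIdeal O) (hreg : t ∈ nonZeroDivisors O)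
    (hrad : (Ideal.span {t}).IsRadical) (p : Ideal O) (hp : p ∈ minimalPrimes O)
    (h : ∀ q : Ideal O, q.IsPrime → p ≤ q → t ∈ q → q = maximalIdeal O) (q : Ideal O) (hq : q.IsPrime)
    (htq : t ∈ q) : q = maximalIdeal O := by
  by_contra hne
  have hass : IsAssociatedPrime p O := by
    apply Module.associatedPrimes.minimalPrimes_annihilator_subset_associatedPrimes O O
    have : Module.annihilator O O = ⊥ := by
      rw [Module.annihilator_eq_bot]
      infer_instance
    rwa [this]
  rw [isAssociatedPrime_iff] at hass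
  obtain ⟨hpp, a, hpa⟩ := hass
  have hmem : ∀ x, x ∈ p ↔ x * a = 0 := by
    intro x
    rw [hpa, Submodule.mem_colon_singleton]
    exact Iff.rfl
  have ha0 : a ≠ 0 := by
    rintro rfl
    exact hpp.ne_top ((Ideal.eq_top_iff_one _).mpr ((hmem 1).mpr (mul_zero _)))
  obtain ⟨n, b, hab, hb⟩ := exists_not_mem ht ha0
  have hpb : ∀ x ∈ p, x * b = 0 := by
    intro x hx
    have h1 := (hmem x).mp hx
    rw [hab, mul_left_comm] at h1
    exact ((mem_nonZeroDivisors_iff.mp (pow_mem hreg n)).1 _ h1)
  -- `b` lies in every prime containing `t` different from the maximal ideal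
  have hkey : ∀ q' : Ideal O, q'.IsPrime → t ∈ q' → q' ≠ maximalIdeal O → b ∈ q' := by
    intro q' hq' ht' hne'
    have h1 : ¬ p ≤ q' := fun hle => hne' (h q' hq' hle ht')
    obtain ⟨x, hx, hxq⟩ := Set.not_subset.mp h1
    have h2 : x * b ∈ q' := by rw [hpb x hx]; exact q'.zero_mem
    exact (hq'.mem_or_mem h2).resolve_left hxq
  apply hb
  rw [← hrad.radical, Ideal.radical_eq_sInf, Submodule.mem_sInf]
  rintro q' ⟨hle, hq'⟩
  have ht' : t ∈ q' := hle (Ideal.mem_span_singleton_self t)
  by_cases hm : q' = maximalIdeal O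
  · rw [hm]
    exact le_maximalIdeal hq.ne_top (hkey q hq htq hne)
  · exact hkey q' hq' ht' hm

/-- If `V(t)` is the closed point, the ring is a domain. -/
theorem minimalPrime_eq_bot (ht : t ∈ maximalIdeal O) (hreg : t ∈ nonZeroDivisors O)
    (hrad : (Ideal.span {t}).IsRadical)
    (h : ∀ q : Ideal O, q.IsPrime → t ∈ q → q = maximalIdeal O) (p : Ideal O) (hp : p ∈ minimalPrimes O) :
    p = ⊥ := by
  have hm : maximalIdeal O = Ideal.span {t} := by
    apply le_antisymm
    · rw [← hrad.radical, Ideal.radical_eq_sInf]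
      refine le_sInf ?_
      rintro q ⟨hle, hq⟩
      rw [h q hq (hle (Ideal.mem_span_singleton_self t))]
    · rw [Ideal.span_singleton_le_iff_mem]
      exact ht
  have hpp : p.IsPrime := hp.1.1
  have htp : t ∉ p := by
    intro htp
    have := (Ideal.disjoint_nonZeroDivisors_of_mem_minimalPrimes hp)
    exact Set.disjoint_left.mp this htp hreg
  have h1 : p ≤ maximalIdeal O • p := by
    intro a ha
    have h2 : a ∈ maximalIdeal O := le_maximalIdeal hpp.ne_top ha
    rw [hm, Ideal.mem_span_singleton] at h2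
    obtain ⟨b, rfl⟩ := h2
    have hb : b ∈ p := (hpp.mem_or_mem ha).resolve_left htp
    exact Submodule.smul_mem_smul ht hb
  exact Submodule.eq_bot_of_le_smul_of_le_jacobson_bot (maximalIdeal O) p (IsNoetherian.noetherian p) h1
    (by rw [jacobson_eq_maximalIdeal ⊥ bot_ne_top])

end K264.RedDvrAlg
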