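import Groth.Agent.FlatMor.K264.RedDvrAlg
import Groth.Agent.CycB.FiberStalk
import Mathlib.AlgebraicGeometry.Morphisms.Flat
import Mathlib.RingTheory.DiscreteValuationRing.Basic
import Mathlib.AlgebraicGeometry.Noetherian
import Mathlib.RingTheory.Flat.TorsionFree

/-!
# Maximal points of reduced special fibres of flat morphisms
-/

set_option autoImplicit false
universe u

open CategoryTheory AlgebraicGeometry Limits TopologicalSpace IsLocalRing

namespace K264.RedFib

open Groth.Agent.CycB.FiberStalk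

variable {X Y : Scheme.{u}} (f : X ⟶ Y)

theorem apply_fromSpecStalk_eq_iff (x : X) (q : Spec (X.presheaf.stalk x)) :
    f (X.fromSpecStalk x q) = f x ↔ fibIdeal f x ≤ (q : PrimeSpectrum (X.presheaf.stalk x)).asIdeal := by
  have h1 : f (X.fromSpecStalk x q) = Y.fromSpecStalk (f x) (Spec.map (f.stalkMap x) q) := by
    rw [← Scheme.Hom.comp_apply, ← Scheme.SpecMap_stalkMap_fromSpecStalk, Scheme.Hom.comp_apply]
  have h2 : Y.fromSpecStalk (f x) (closedPoint (Y.presheaf.stalk (f x))) = f x :=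
    Scheme.fromSpecStalk_closedPoint
  rw [h1]
  conv_lhs => rhs; rw [← h2]
  rw [(Y.fromSpecStalk (f x)).isEmbedding.injective.eq_iff, Ideal.map_le_iff_le_comap]
  constructor
  · intro h
    have h3 : (Spec.map (f.stalkMap x) q : PrimeSpectrum (Y.presheaf.stalk (f x))).asIdeal =
        Ideal.comap (f.stalkMap x).hom (q : PrimeSpectrum (X.presheaf.stalk x)).asIdeal := rfl
    rw [← h3, h]
    exact le_rfl
  · intro h
    refine PrimeSpectrum.ext ?_
    exact le_antisymm (le_maximalIdeal (Ideal.IsPrime.ne_top inferInstance)) h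

theorem exists_eq {x z : X} (h : z ⤳ x) : ∃ q : Spec (X.presheaf.stalk x), X.fromSpecStalk x q = z := by
  have : z ∈ Set.range (X.fromSpecStalk x) := by
    rw [Scheme.range_fromSpecStalk]
    exact h
  exact this

theorem specializes_iff {x : X} (q q' : Spec (X.presheaf.stalk x)) :
    X.fromSpecStalk x q ⤳ X.fromSpecStalk x q' ↔
      (q : PrimeSpectrum (X.presheaf.stalk x)).asIdeal ≤ (q' : PrimeSpectrum (X.presheaf.stalk x)).asIdeal := by
  rw [(X.fromSpecStalk x).isEmbedding.isInducing.specializes_iff]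
  exact (PrimeSpectrum.le_iff_specializes _ _).symm

theorem closedPoint_eq {x : X} (q : Spec (X.presheaf.stalk x))
    (h : (q : PrimeSpectrum (X.presheaf.stalk x)).asIdeal = maximalIdeal (X.presheaf.stalk x)) :
    X.fromSpecStalk x q = x := by
  have : q = closedPoint (X.presheaf.stalk x) := PrimeSpectrum.ext h
  rw [this]
  exact Scheme.fromSpecStalk_closedPoint

/-- A maximal point of `V(ξ) ∩ f⁻¹(f x₀)` above `x₀`. -/
theorem exists_point {ξ x₀ : X} (h : ξ ⤳ x₀) :
    ∃ x : X, ξ ⤳ x ∧ f x = f x₀ ∧ ∀ z, ξ ⤳ z → z ⤳ x → f z = f x₀ → z = x := by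
  obtain ⟨p, hp⟩ := exists_eq h
  let I : Ideal (X.presheaf.stalk x₀) := (p : PrimeSpectrum (X.presheaf.stalk x₀)).asIdeal ⊔ fibIdeal f x₀
  have hI : I ≤ maximalIdeal (X.presheaf.stalk x₀) :=
    sup_le (le_maximalIdeal (Ideal.IsPrime.ne_top inferInstance)) (fibIdeal_le f x₀)
  obtain ⟨q, hq, -⟩ := Ideal.exists_minimalPrimes_le hI
  let q' : Spec (X.presheaf.stalk x₀) := (⟨q, hq.1.1⟩ : PrimeSpectrum (X.presheaf.stalk x₀))
  refine ⟨X.fromSpecStalk x₀ q', ?_, ?_, ?_⟩
  · rw [← hp, specializes_iff]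
    exact le_sup_left.trans hq.1.2
  · rw [apply_fromSpecStalk_eq_iff]
    exact le_sup_right.trans hq.1.2
  · intro z hz1 hz2 hz3
    have hzx : z ⤳ x₀ := by
      refine hz2.trans ?_
      have : X.fromSpecStalk x₀ q' ∈ Set.range (X.fromSpecStalk x₀) := ⟨_, rfl⟩
      rw [Scheme.range_fromSpecStalk] at this
      exact this
    obtain ⟨r, rfl⟩ := exists_eq hzx
    rw [← hp, specializes_iff] at hz1
    rw [specializes_iff] at hz2
    rw [apply_fromSpecStalk_eq_iff] at hz3
    have h3 : (r : PrimeSpectrum (X.presheaf.stalk x₀)).asIdeal = q :=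
      le_antisymm hz2 (hq.2 ⟨inferInstance, sup_le hz1 hz3⟩ hz2)
    congr 1
    exact PrimeSpectrum.ext h3

/-- **Maximal points of a reduced special fibre**. -/
theorem key [Flat f] [IsLocallyNoetherian X] (x : X) [IsDomain (Y.presheaf.stalk (f x))]
    [IsDiscreteValuationRing (Y.presheaf.stalk (f x))] (hred : IsReduced (f.fiber (f x)))
    (ξ : X) (hξ : ξ ⤳ x) (hgen : ∀ z, z ⤳ ξ → z = ξ) (hmax : ∀ z, ξ ⤳ z → z ⤳ x → f z = f x → z = x) :
    (∀ z, z ⤳ x → f z = f x → z = x) ∧ ∀ ξ', ξ' ⤳ x → (∀ z, z ⤳ ξ' → z = ξ') → ξ' = ξ := by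
  obtain ⟨ϖ, hϖ⟩ := IsDiscreteValuationRing.exists_irreducible (Y.presheaf.stalk (f x))
  have hm : maximalIdeal (Y.presheaf.stalk (f x)) = Ideal.span {ϖ} := hϖ.maximalIdeal_eq
  let t : X.presheaf.stalk x := (f.stalkMap x).hom ϖ
  have hfib : fibIdeal f x = Ideal.span {t} := by
    rw [fibIdeal, hm, Ideal.map_span, Set.image_singleton]
  have ht : t ∈ maximalIdeal (X.presheaf.stalk x) := by
    apply fibIdeal_le f x
    rw [hfib]
    exact Ideal.mem_span_singleton_self t
  have hflat : (f.stalkMap x).hom.Flat := Flat.stalkMap f x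
  have hreg : t ∈ nonZeroDivisors (X.presheaf.stalk x) := by
    algebraize [(f.stalkMap x).hom]
    have h0 : ϖ ∈ nonZeroDivisors (Y.presheaf.stalk (f x)) := mem_nonZeroDivisors_of_ne_zero hϖ.ne_zero
    have h1 : IsSMulRegular (X.presheaf.stalk x) ϖ := Module.Flat.isSMulRegular_of_nonZeroDivisors h0
    rw [mem_nonZeroDivisors_iff_right]
    intro b hb
    apply h1
    change ϖ • b = ϖ • (0 : X.presheaf.stalk x)
    rw [smul_zero, Algebra.smul_def, mul_comm]
    exact hb
  have hrad : (Ideal.span {t}).IsRadical := by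
    rw [← hfib, Ideal.isRadical_iff_quotient_reduced]
    let e := stalkEquiv f (f x) (f.asFiber x)
    have hx : f.fiberι (f x) (f.asFiber x) = x := f.fiberι_asFiber x
    have : _root_.IsReduced (X.presheaf.stalk (f.fiberι (f x) (f.asFiber x)) ⧸
        fibIdeal f (f.fiberι (f x) (f.asFiber x))) :=
      isReduced_of_injective e.toRingHom e.injective
    rwa [hx] at this
  obtain ⟨p, hp⟩ := exists_eq hξ
  have hpmin : ∀ (p' : Spec (X.presheaf.stalk x)), (∀ z, z ⤳ X.fromSpecStalk x p' → z = X.fromSpecStalk x p') →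
      (p' : PrimeSpectrum (X.presheaf.stalk x)).asIdeal ∈ minimalPrimes (X.presheaf.stalk x) := by
    intro p' hp'
    refine ⟨⟨inferInstance, bot_le⟩, ?_⟩
    rintro r ⟨hr, -⟩ hrp
    let r' : Spec (X.presheaf.stalk x) := (⟨r, hr⟩ : PrimeSpectrum (X.presheaf.stalk x))
    have h1 : X.fromSpecStalk x r' ⤳ X.fromSpecStalk x p' := (specializes_iff r' p').mpr hrp
    have h2 := hp' _ h1
    have h3 : r' = p' := (X.fromSpecStalk x).isEmbedding.injective h2
    rw [← h3]
  have hmax' : ∀ q : Ideal (X.presheaf.stalk x), q.IsPrime → (p : PrimeSpectrum (X.presheaf.stalk x)).asIdeal ≤ q →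
      t ∈ q → q = maximalIdeal (X.presheaf.stalk x) := by
    intro q hq hpq htq
    let q' : Spec (X.presheaf.stalk x) := (⟨q, hq⟩ : PrimeSpectrum (X.presheaf.stalk x))
    have h1 : X.fromSpecStalk x q' ⤳ x := by
      have : X.fromSpecStalk x q' ∈ Set.range (X.fromSpecStalk x) := ⟨_, rfl⟩
      rw [Scheme.range_fromSpecStalk] at this
      exact this
    have h2 : ξ ⤳ X.fromSpecStalk x q' := by
      rw [← hp, specializes_iff]
      exact hpq
    have h3 : f (X.fromSpecStalk x q') = f x := by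
      rw [apply_fromSpecStalk_eq_iff, hfib, Ideal.span_singleton_le_iff_mem]
      exact htq
    have h4 := hmax _ h2 h1 h3
    have h5 : X.fromSpecStalk x q' = X.fromSpecStalk x (closedPoint (X.presheaf.stalk x)) := by
      rw [h4]
      exact Scheme.fromSpecStalk_closedPoint.symm
    have h6 := (X.fromSpecStalk x).isEmbedding.injective h5
    exact congrArg (fun s : Spec (X.presheaf.stalk x) => (s : PrimeSpectrum (X.presheaf.stalk x)).asIdeal) h6
  have hgenp : ∀ z, z ⤳ X.fromSpecStalk x p → z = X.fromSpecStalk x p := by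
    rw [hp]
    exact hgen
  have hall := RedDvrAlg.eq_maximalIdeal ht hreg hrad _ (hpmin p hgenp) hmax'
  refine ⟨fun z hz hfz => ?_, fun ξ' hξ' hgen' => ?_⟩
  · obtain ⟨q, rfl⟩ := exists_eq hz
    apply closedPoint_eq
    apply hall _ inferInstance
    rw [apply_fromSpecStalk_eq_iff, hfib, Ideal.span_singleton_le_iff_mem] at hfz
    exact hfz
  · obtain ⟨p', rfl⟩ := exists_eq hξ'
    rw [← hp]
    congr 1
    refine PrimeSpectrum.ext ?_
    rw [RedDvrAlg.minimalPrime_eq_bot ht hreg hrad hall _ (hpmin p' hgen'),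
      RedDvrAlg.minimalPrime_eq_bot ht hreg hrad hall _ (hpmin p hgenp)]

theorem key' [Flat f] [IsLocallyNoetherian X] (x : X) (y : Y) (hxy : f x = y) [IsDomain (Y.presheaf.stalk y)]
    [IsDiscreteValuationRing (Y.presheaf.stalk y)] (hred : IsReduced (f.fiber y))
    (ξ : X) (hξ : ξ ⤳ x) (hgen : ∀ z, z ⤳ ξ → z = ξ) (hmax : ∀ z, ξ ⤳ z → z ⤳ x → f z = y → z = x) :
    (∀ z, z ⤳ x → f z = y → z = x) ∧ ∀ ξ', ξ' ⤳ x → (∀ z, z ⤳ ξ' → z = ξ') → ξ' = ξ := by
  subst hxy
  exact key f x hred ξ hξ hgen hmax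

end K264.RedFib
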