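import Mathlib.AlgebraicGeometry.Pullbacks
import Mathlib.AlgebraicGeometry.Limits
import Mathlib.CategoryTheory.Limits.Shapes.WidePullbacks

/-!
# Stable properties of morphisms pass to finite fibre products
-/

set_option autoImplicit false
universe u

open CategoryTheory AlgebraicGeometry Limits TopologicalSpace

namespace K264.WideProp

theorem exists_wide (P : MorphismProperty Scheme.{u}) [P.IsMultiplicative] [P.IsStableUnderBaseChange]
    {S : Scheme.{u}} (n : ℕ) :
    ∀ (X : Fin n → Scheme.{u}) (g : ∀ i, X i ⟶ S), (∀ i, P (g i)) →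
      ∃ (T : Scheme.{u}) (p : T ⟶ S) (π : ∀ i, T ⟶ X i), (∀ i, π i ≫ g i = p) ∧ P p ∧
        (∀ (Z : Scheme.{u}) (a : Z ⟶ S) (f : ∀ i, Z ⟶ X i), (∀ i, f i ≫ g i = a) →
          ∃ l : Z ⟶ T, l ≫ p = a ∧ ∀ i, l ≫ π i = f i) ∧
        (∀ (Z : Scheme.{u}) (l l' : Z ⟶ T), l ≫ p = l' ≫ p → (∀ i, l ≫ π i = l' ≫ π i) → l = l') := by
  induction n with
  | zero =>
    intro X g _
    refine ⟨S, 𝟙 S, fun i => i.elim0, fun i => i.elim0, P.id_mem S, fun Z a f _ => ⟨a, Category.comp_id a,
      fun i => i.elim0⟩, fun Z l l' h _ => ?_⟩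
    rwa [Category.comp_id, Category.comp_id] at h
  | succ n ih =>
    intro X g hg
    obtain ⟨T, p, π, h1, h2, h3, h4⟩ := ih (fun i => X i.succ) (fun i => g i.succ) (fun i => hg _)
    refine ⟨pullback (g 0) p, pullback.snd (g 0) p ≫ p,
      Fin.cases (pullback.fst (g 0) p) (fun i => pullback.snd (g 0) p ≫ π i), ?_, ?_, ?_, ?_⟩
    · intro i
      refine Fin.cases ?_ (fun i => ?_) i
      · exact pullback.condition
      · change (pullback.snd (g 0) p ≫ π i) ≫ g i.succ = _
        rw [Category.assoc, h1]
    · exact P.comp_mem _ _ (MorphismProperty.pullback_snd _ _ (hg 0)) h2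
    · intro Z a f hf
      obtain ⟨l, hl1, hl2⟩ := h3 Z a (fun i => f i.succ) (fun i => hf _)
      refine ⟨pullback.lift (f 0) l (by rw [hf 0, hl1]), ?_, ?_⟩
      · rw [pullback.lift_snd_assoc, hl1]
      · intro i
        refine Fin.cases ?_ (fun i => ?_) i
        · exact pullback.lift_fst _ _ _
        · change pullback.lift (f 0) l _ ≫ pullback.snd (g 0) p ≫ π i = f i.succ
          rw [pullback.lift_snd_assoc, hl2]
    · intro Z l l' hl hi
      apply pullback.hom_ext
      · exact hi 0
      · refine h4 Z _ _ ?_ ?_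
        · simpa only [Category.assoc] using hl
        · intro i
          have := hi i.succ
          change l ≫ pullback.snd (g 0) p ≫ π i = l' ≫ pullback.snd (g 0) p ≫ π i at this
          simpa only [Category.assoc] using this

/-- A property of morphisms stable under composition and base change passes to finite fibre products over the base. -/
theorem base_mem (P : MorphismProperty Scheme.{u}) [P.IsMultiplicative] [P.IsStableUnderBaseChange]
    {S : Scheme.{u}} {n : ℕ} (X : Fin n → Scheme.{u}) (g : ∀ i, X i ⟶ S) (hg : ∀ i, P (g i)) :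
    P (WidePullback.base g) := by
  obtain ⟨T, p, π, h1, h2, h3, h4⟩ := exists_wide P n X g hg
  obtain ⟨a, ha1, ha2⟩ := h3 _ (WidePullback.base g) (fun i => WidePullback.π g i) (fun i => WidePullback.π_arrow g i)
  let b : T ⟶ widePullback S X g := WidePullback.lift p π h1
  have hab : a ≫ b = 𝟙 _ := by
    apply WidePullback.hom_ext
    · intro i
      rw [Category.assoc, WidePullback.lift_π, ha2, Category.id_comp]
    · rw [Category.assoc, WidePullback.lift_base, ha1, Category.id_comp]
  have hba : b ≫ a = 𝟙 _ := by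
    apply h4
    · rw [Category.assoc, ha1, WidePullback.lift_base, Category.id_comp]
    · intro i
      rw [Category.assoc, ha2, WidePullback.lift_π, Category.id_comp]
  have hiso : IsIso a := ⟨b, hab, hba⟩
  have h5 : P (a ≫ p) := by
    have : P.RespectsIso := inferInstance
    exact MorphismProperty.RespectsIso.precomp P a p h2
  rwa [ha1] at h5

end K264.WideProp
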