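import Groth.Agent.FlatMor.K264.IdealNhd
import Groth.Agent.FlatMor.K264.WideProp
import Groth.Agent.FlatMor.K264.QDomBlow

/-!
# Separating the closures of closed subschemes in compactifications by admissible blow-ups: local part
-/

set_option autoImplicit false
universe u

open CategoryTheory AlgebraicGeometry Limits TopologicalSpace

namespace K264.SepClosures

open Groth.Agent.Divis.CartierBasic Groth.Agent.Flat2C.StrictTr Groth.Agent.Flat2C.StrictTr2

/-- In a local ring, if `A ⊔ B` is generated by a nonzerodivisor `s`, then `s ∈ A` or `s ∈ B`. -/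
theorem mem_or_mem {R : Type*} [CommRing R] [IsLocalRing R] (A B : Ideal R) (s : R) (hs : s ∈ nonZeroDivisors R)
    (h : A ⊔ B = Ideal.span {s}) : s ∈ A ∨ s ∈ B := by
  have h1 : s ∈ A ⊔ B := by rw [h]; exact Ideal.mem_span_singleton_self s
  obtain ⟨a, ha, b, hb, hab⟩ := Submodule.mem_sup.mp h1
  have ha' : a ∈ Ideal.span {s} := by rw [← h]; exact Ideal.mem_sup_left ha
  have hb' : b ∈ Ideal.span {s} := by rw [← h]; exact Ideal.mem_sup_right hb
  obtain ⟨a', rfl⟩ := Ideal.mem_span_singleton'.mp ha'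
  obtain ⟨b', rfl⟩ := Ideal.mem_span_singleton'.mp hb'
  have h2 : a' + b' = 1 := by
    have h3 : (a' + b') * s = 1 * s := by rw [add_mul, hab, one_mul]
    exact (mul_cancel_right_mem_nonZeroDivisors hs).mp h3
  rcases IsLocalRing.isUnit_or_isUnit_of_add_one h2 with h3 | h3
  · left
    exact (Ideal.unit_mul_mem_iff_mem _ h3).mp ha
  · right
    exact (Ideal.unit_mul_mem_iff_mem _ h3).mp hb

/-- On the blow-up in `I ^ M ⊔ J`, at a point of the closure of `V(J) \ V(I)` the ideal `J` is contained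
in `I ^ M`. -/
theorem stalk_le_of_mem_closure {X X' : Scheme.{u}} (J I : X.IdealSheafData) (hJ : BlowUp.IsFiniteTypeIdeal J)
    (hI : BlowUp.IsFiniteTypeIdeal I) (M : ℕ) (c : X' ⟶ X)
    (hc : BlowUp.IsEffCartierIdeal ((I ^ M ⊔ J).comap c)) (T : Set X')
    (hT : ∀ y ∈ T, c y ∈ J.support ∧ c y ∉ I.support) (z : X') (hz : z ∈ closure T) :
    stalkIdeal (J.comap c) z ≤ stalkIdeal (I.comap c) z ^ M := by
  obtain ⟨s, hs, hspan⟩ := exists_stalkIdeal_eq_span hc z
  have h1 : stalkIdeal ((I ^ M ⊔ J).comap c) z = stalkIdeal (I.comap c) z ^ M ⊔ stalkIdeal (J.comap c) z := by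
    rw [Scheme.IdealSheafData.comap_sup, stalkIdeal_sup, Groth.Agent.Divis.IdealComap.comap_pow, stalkIdeal_pow]
  rw [h1] at hspan
  rcases mem_or_mem _ _ s hs hspan with h2 | h2
  · refine (le_sup_right (a := stalkIdeal (I.comap c) z ^ M)).trans ?_
    rw [hspan, Ideal.span_singleton_le_iff_mem]
    exact h2
  · exfalso
    have h3 : stalkIdeal ((I ^ M ⊔ J).comap c) z ≤ stalkIdeal (J.comap c) z := by
      rw [h1, hspan, Ideal.span_singleton_le_iff_mem]
      exact h2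
    have hft : BlowUp.IsFiniteTypeIdeal ((I ^ M ⊔ J).comap c) :=
      Groth.Agent.Flat2C.Admissible.isFT_comap (Groth.Agent.Flat2C.Admissible.isFT_sup
        (Groth.Agent.Flat2C.Admissible.isFT_pow hI M) hJ) c
    obtain ⟨N, hzN, hN⟩ := K264.IdealNhd.exists_nhd_le _ _ hft z h3
    obtain ⟨y, hyN, hyT⟩ := mem_closure_iff.mp hz N N.isOpen hzN
    obtain ⟨hyJ, hyI⟩ := hT y hyT
    have h4 : stalkIdeal ((I ^ M ⊔ J).comap c) y = ⊤ := by
      rw [Scheme.IdealSheafData.comap_sup, stalkIdeal_sup, Groth.Agent.Divis.IdealComap.comap_pow, stalkIdeal_pow]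
      have h5 : stalkIdeal (I.comap c) y = ⊤ := by
        rw [← notMem_support_iff_stalkIdeal_eq_top, Scheme.IdealSheafData.support_comap]
        exact hyI
      rw [h5, Ideal.top_pow, top_sup_eq]
    have h5 : stalkIdeal (J.comap c) y ≠ ⊤ := by
      rw [← mem_support_iff_stalkIdeal_ne_top, Scheme.IdealSheafData.support_comap]
      exact hyJ
    exact h5 (top_le_iff.mp (h4 ▸ hN y hyN))

/-- Extension of a finite type ideal along a quasi-compact open immersion into a qcqs scheme. -/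
theorem exists_extend_ideal {X Y : Scheme.{u}} [CompactSpace Y] [QuasiSeparatedSpace Y] (o : X ⟶ Y)
    [IsOpenImmersion o] [QuasiCompact o] (𝓙 : X.IdealSheafData) (h𝓙 : BlowUp.IsFiniteTypeIdeal 𝓙) :
    ∃ J : Y.IdealSheafData, BlowUp.IsFiniteTypeIdeal J ∧ J.comap o = 𝓙 := by
  have hX : CompactSpace X := QuasiCompact.compactSpace_of_compactSpace o
  have hW : IsCompact (o.opensRange : Set Y) := isCompact_range o.continuous
  obtain ⟨J, h1, h2⟩ := Groth.Agent.Flat2C.Admissible.exists_extend ⊥ o.opensRange isCompact_empty hW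
    (𝓙.comap o.isoOpensRange.inv) ⟨Groth.Agent.Flat2C.Admissible.isFT_comap h𝓙 _, by
      have : ((o.opensRange.ι ⁻¹ᵁ (⊥ : Y.Opens) : (o.opensRange : Scheme.{u}).Opens) :
        Set (o.opensRange : Scheme.{u})) = ∅ := rfl
      rw [this]
      exact Set.disjoint_empty _⟩
  refine ⟨J, h1.1, ?_⟩
  have h3 : J.comap o = (J.comap o.opensRange.ι).comap o.isoOpensRange.hom := by
    rw [← Scheme.IdealSheafData.comap_comp, Scheme.Hom.isoOpensRange_hom_ι]
  rw [h3, h2, ← Scheme.IdealSheafData.comap_comp, Iso.hom_inv_id, Scheme.IdealSheafData.comap_id]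

/-- The domains of definition agree on the closure of `U`: let `a, b : Ω ⟶ Xᵢ, X̄ⱼ` agree over `S` and let
`U ⟶ Ω` be dominant such that on `U` everything comes from `Xᵢ ×_X Xⱼ`.  Then `b` lands in `Xⱼ`. -/
theorem mem_range_of_dominant {S X X₁ X₂ Xb₁ Xb₂ Ω U : Scheme.{u}} (gX : X ⟶ S)
    (gb₁ : Xb₁ ⟶ S) (gb₂ : Xb₂ ⟶ S) [IsProper gb₂]
    (o₁ : X₁ ⟶ Xb₁) (o₂ : X₂ ⟶ Xb₂) (q₁ : X₁ ⟶ X) (q₂ : X₂ ⟶ X) [IsProper q₂]
    (hq₁ : q₁ ≫ gX = o₁ ≫ gb₁) (hq₂ : q₂ ≫ gX = o₂ ≫ gb₂)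
    (v₁ : U ⟶ X₁) (v₂ : U ⟶ X₂) (hv : v₁ ≫ q₁ = v₂ ≫ q₂)
    (l : U ⟶ Ω) [IsDominant l] (a : Ω ⟶ X₁) (b : Ω ⟶ Xb₂) (hab : a ≫ o₁ ≫ gb₁ = b ≫ gb₂)
    (hla : l ≫ a = v₁) (hlb : l ≫ b = v₂ ≫ o₂) (x : Ω) : b x ∈ Set.range o₂ := by
  let τ : pullback q₁ q₂ ⟶ pullback (o₁ ≫ gb₁) gb₂ :=
    pullback.lift (pullback.fst _ _) (pullback.snd _ _ ≫ o₂) (by
      rw [← hq₁, Category.assoc, ← hq₂, ← Category.assoc, pullback.condition, Category.assoc])
  have hτ : IsProper τ := by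
    have : IsProper (τ ≫ pullback.fst _ _) := by
      rw [pullback.lift_fst]
      infer_instance
    exact IsProper.of_comp _ (pullback.fst (o₁ ≫ gb₁) gb₂)
  let f : Ω ⟶ pullback (o₁ ≫ gb₁) gb₂ := pullback.lift a b hab
  have hlf : l ≫ f = pullback.lift v₁ v₂ hv ≫ τ := by
    apply pullback.hom_ext
    · rw [Category.assoc, pullback.lift_fst, hla, Category.assoc, pullback.lift_fst, pullback.lift_fst]
    · rw [Category.assoc, pullback.lift_snd, hlb, Category.assoc, pullback.lift_snd, pullback.lift_snd_assoc]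
  have hcl : IsClosed (Set.range τ) := τ.isClosedMap.isClosed_range
  have hsub : (Set.univ : Set Ω) ⊆ f ⁻¹' (Set.range τ) := by
    rw [← l.denseRange.closure_range]
    refine (hcl.preimage f.continuous).closure_subset_iff.mpr ?_
    rintro _ ⟨u, rfl⟩
    refine ⟨pullback.lift v₁ v₂ hv u, ?_⟩
    rw [← Scheme.Hom.comp_apply, ← hlf]
    rfl
  obtain ⟨t, ht⟩ := hsub (Set.mem_univ x)
  refine ⟨pullback.snd q₁ q₂ t, ?_⟩
  have h1 : b = f ≫ pullback.snd _ _ := (pullback.lift_snd _ _ _).symm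
  rw [h1, Scheme.Hom.comp_apply, ← ht, ← Scheme.Hom.comp_apply, ← Scheme.Hom.comp_apply, pullback.lift_snd]

end K264.SepClosures
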