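import Groth.Agent.FlatMor.K264.SepClosures

/-!
# Separating the closures of closed subschemes in compactifications by admissible blow-ups
-/

set_option autoImplicit false
universe u

open CategoryTheory AlgebraicGeometry Limits TopologicalSpace

namespace K264.SepMain

open Groth.Agent.Divis.CartierBasic Groth.Agent.Flat2C.StrictTr Groth.Agent.Flat2C.StrictTr2
open K264.SepClosures

theorem nakayama_aux {R : Type*} [CommRing R] [IsLocalRing R] {ι : Type*} (𝔞 𝔟 : ι → Ideal R) (𝔄 : Ideal R)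
    (h𝔄 : 𝔄 = ⨆ i, 𝔞 i) (hfg : 𝔄.FG) (M : ℕ) (h1 : ∀ i, 𝔞 i ≤ 𝔟 i ^ M) (h2 : ∀ i, 𝔟 i ^ M ≤ 𝔟 i * 𝔄)
    (h3 : ∀ i, 𝔟 i ≤ IsLocalRing.maximalIdeal R) : 𝔄 = ⊥ := by
  refine Submodule.eq_bot_of_le_smul_of_le_jacobson_bot (IsLocalRing.maximalIdeal R) 𝔄 hfg ?_
    (IsLocalRing.maximalIdeal_le_jacobson _)
  conv_lhs => rw [h𝔄]
  refine iSup_le fun i => ?_
  exact ((h1 i).trans (h2 i)).trans (Ideal.mul_mono_left (h3 i))

theorem stalkIdeal_iSup {X : Scheme.{u}} {ι : Type*} (I : ι → X.IdealSheafData) (x : X) :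
    stalkIdeal (⨆ i, I i) x = ⨆ i, stalkIdeal (I i) x := by
  obtain ⟨U, hx⟩ := exists_affine x
  rw [stalkIdeal_eq _ U hx, Scheme.IdealSheafData.ideal_iSup, iSup_apply, Ideal.map_iSup]
  exact iSup_congr fun i => (stalkIdeal_eq _ U hx).symm

theorem fg_iSup {R : Type*} [CommRing R] {ι : Type*} [Finite ι] (I : ι → Ideal R) (h : ∀ i, (I i).FG) :
    (⨆ i, I i).FG := Submodule.fg_iSup I h

theorem main
    {S X U : Scheme.{u}} [CompactSpace S] [QuasiSeparatedSpace S] {m : ℕ}
    (gX : X ⟶ S) [QuasiCompact gX]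
    (Xi Xb : Fin m → Scheme.{u}) (gb : ∀ i, Xb i ⟶ S) [hgb : ∀ i, IsProper (gb i)]
    (o : ∀ i, Xi i ⟶ Xb i) [ho : ∀ i, IsOpenImmersion (o i)] [hoq : ∀ i, QuasiCompact (o i)]
    (q : ∀ i, Xi i ⟶ X) [hqp : ∀ i, IsProper (q i)] (hq : ∀ i, q i ≫ gX = o i ≫ gb i)
    (jU : U ⟶ X) [QuasiCompact jU]
    (v : ∀ i, U ⟶ Xi i)
    (hv : ∀ i, v i ≫ q i = jU) (w : ∀ i, (v i ≫ o i) ≫ gb i = jU ≫ gX)
    (Y : ∀ i, (Xi i).IdealSheafData) (hY : ∀ i, BlowUp.IsFiniteTypeIdeal (Y i))
    (hempty : ∀ z ∈ closure (Set.range (fun x => (WidePullback.lift (jU ≫ gX) (fun i => v i ≫ o i) w) x)),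
      ∃ i, (WidePullback.π gb i) z ∉ (fun x => o i x) '' ((Y i).support : Set (Xi i))) :
    ∃ (𝓔 : ∀ i, (Xb i).IdealSheafData) (Xb' : Fin m → Scheme.{u}) (c : ∀ i, Xb' i ⟶ Xb i)
      (v' : ∀ i, U ⟶ Xb' i) (w' : ∀ i, v' i ≫ c i ≫ gb i = jU ≫ gX),
      (∀ i, BlowUp.IsBlowUp (c i) (𝓔 i) ∧ BlowUp.IsAdmissibleFor (o i).opensRange (𝓔 i) ∧
        v' i ≫ c i = v i ≫ o i) ∧
      ∀ z ∈ closure (Set.range (fun x => (WidePullback.lift (jU ≫ gX) (fun i => v' i) w') x)),
        ∃ i, (WidePullback.π (fun i => c i ≫ gb i) i) z ∉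
          closure ((fun y => c i y) ⁻¹' ((fun x => o i x) '' ((Y i).support : Set (Xi i)))) := by
  classical
  have hXc : CompactSpace X := QuasiCompact.compactSpace_of_compactSpace gX
  have hUc : CompactSpace U := QuasiCompact.compactSpace_of_compactSpace jU
  have hXbc : ∀ i, CompactSpace (Xb i) := fun i => QuasiCompact.compactSpace_of_compactSpace (gb i)
  have hXbq : ∀ i, QuasiSeparatedSpace (Xb i) := fun i => quasiSeparatedSpace_of_quasiSeparated (gb i)
  have hXic : ∀ i, CompactSpace (Xi i) := fun i => QuasiCompact.compactSpace_of_compactSpace (o i)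
  -- the product and the closure of `U`
  have hbase : IsProper (WidePullback.base gb) := K264.WideProp.base_mem @IsProper Xb gb hgb
  have hPc : CompactSpace ↥(widePullback S Xb gb) := QuasiCompact.compactSpace_of_compactSpace (WidePullback.base gb)
  have hPq : QuasiSeparatedSpace ↥(widePullback S Xb gb) :=
    quasiSeparatedSpace_of_quasiSeparated (WidePullback.base gb)
  let l : U ⟶ widePullback S Xb gb := WidePullback.lift (jU ≫ gX) (fun i => v i ≫ o i) w
  have hlq : QuasiCompact l := inferInstance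
  have hUbc : CompactSpace l.image := QuasiCompact.compactSpace_of_compactSpace l.imageι
  let pr : ∀ i, l.image ⟶ Xb i := fun i => l.imageι ≫ WidePullback.π gb i
  have hlpr : ∀ i, l.toImage ≫ pr i = v i ≫ o i := by
    intro i
    simp only [pr, l]
    rw [Scheme.Hom.toImage_imageι_assoc, WidePullback.lift_π]
  -- the ideals
  choose J hJft hJo using fun i => exists_extend_ideal (o i) (Y i) (hY i)
  choose I hIft hIs using fun i => Groth.Agent.Flat2C.Admissible.exists_support_eq (o i).opensRange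
    (isCompact_range (o i).continuous)
  have hJs : ∀ i (x : Xi i), o i x ∈ (J i).support ↔ x ∈ (Y i).support := by
    intro i x
    rw [← hJo i, Scheme.IdealSheafData.support_comap]
    rfl
  have hIn : ∀ i (x : Xb i), x ∉ (I i).support ↔ x ∈ Set.range (o i) := by
    intro i x
    have : x ∈ (I i).support ↔ x ∈ ((I i).support : Set (Xb i)) := Iff.rfl
    rw [this, hIs, Set.mem_compl_iff, not_not]
    rfl
  -- the domains of definition agree on the closure of `U`
  have hdomain : ∀ i j (x : l.image), pr i x ∈ Set.range (o i) → pr j x ∈ Set.range (o j) := by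
    intro i j x hx
    let Ω : l.image.Opens := pr i ⁻¹ᵁ (o i).opensRange
    have hrl : Set.range l.toImage ⊆ Set.range Ω.ι := by
      rw [Scheme.Opens.range_ι]
      rintro _ ⟨t, rfl⟩
      change pr i (l.toImage t) ∈ (o i).opensRange
      rw [← Scheme.Hom.comp_apply, hlpr]
      exact ⟨v i t, rfl⟩
    let lΩ : U ⟶ (Ω : Scheme.{u}) := IsOpenImmersion.lift Ω.ι l.toImage hrl
    have hlΩ : lΩ ≫ Ω.ι = l.toImage := IsOpenImmersion.lift_fac _ _ _
    have hd0 : IsSchemeTheoreticallyDominant l.toImage :=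
      Groth.Agent.Flat2C.GlueBlow.isSchemeTheoreticallyDominant_toImage l
    have hd1 : IsSchemeTheoreticallyDominant lΩ := K264.QDomBlow.dominant_of_comp_ι Ω lΩ l.toImage hlΩ
    have hd1q : QuasiCompact lΩ := by
      have : QuasiCompact (lΩ ≫ Ω.ι) := by rw [hlΩ]; infer_instance
      exact QuasiCompact.of_comp lΩ Ω.ι
    have hd2 : IsDominant lΩ := inferInstance
    have hra : Set.range (Ω.ι ≫ pr i) ⊆ Set.range (o i) := by
      rintro _ ⟨t, rfl⟩
      exact t.2
    let a : (Ω : Scheme.{u}) ⟶ Xi i := IsOpenImmersion.lift (o i) (Ω.ι ≫ pr i) hra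
    have ha : a ≫ o i = Ω.ι ≫ pr i := IsOpenImmersion.lift_fac _ _ _
    have hvij : v i ≫ q i = v j ≫ q j := by rw [hv, hv]
    refine mem_range_of_dominant gX (gb i) (gb j) (o i) (o j) (q i) (q j) (hq i) (hq j) (v i) (v j) hvij lΩ a
      (Ω.ι ≫ pr j) ?_ ?_ ?_ ⟨x, hx⟩
    · rw [← Category.assoc, ha]
      simp only [pr, Category.assoc]
      rw [WidePullback.π_arrow, WidePullback.π_arrow]
    · rw [← cancel_mono (o i), Category.assoc, ha, ← Category.assoc, hlΩ, hlpr]
    · rw [← Category.assoc, hlΩ, hlpr]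
  -- the exponent
  let α : ∀ i, l.image.IdealSheafData := fun i => (J i).comap (pr i)
  let β : ∀ i, l.image.IdealSheafData := fun i => (I i).comap (pr i)
  have hβft : ∀ i, BlowUp.IsFiniteTypeIdeal (β i) := fun i => isFiniteTypeIdeal_comap (hIft i) _
  have hsupp : ∀ i, (((β i) * ⨆ j, α j).support : Set l.image) ⊆ (β i).support := by
    intro i x hx
    by_contra hxβ
    have hx1 : x ∈ ((β i) * ⨆ j, α j).support := hx
    rw [mem_support_iff_stalkIdeal_ne_top] at hx1
    apply hx1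
    have h1 : stalkIdeal (β i) x = ⊤ := by
      rw [← notMem_support_iff_stalkIdeal_eq_top]
      exact hxβ
    rw [stalkIdeal_mul, h1, Ideal.top_mul, stalkIdeal_iSup, eq_top_iff]
    have h2 : pr i x ∈ Set.range (o i) := by
      rw [← hIn]
      have h3 : x ∉ (β i).support := hxβ
      simp only [β, Scheme.IdealSheafData.support_comap] at h3
      exact h3
    obtain ⟨j, hj⟩ := hempty (l.imageι x) (by
      have h4 : l.imageι x ∈ Set.range l.imageι := ⟨x, rfl⟩
      rw [Scheme.IdealSheafData.range_subschemeι, Scheme.Hom.support_ker] at h4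
      exact h4)
    refine le_trans ?_ (le_iSup _ j)
    have h5 : x ∉ (α j).support := by
      simp only [α, Scheme.IdealSheafData.support_comap]
      intro h6
      apply hj
      obtain ⟨y, hy⟩ := hdomain i j x h2
      refine ⟨y, ?_, hy⟩
      have h7 : pr j x ∈ (J j).support := h6
      rw [← hy, hJs] at h7
      exact h7
    rw [notMem_support_iff_stalkIdeal_eq_top] at h5
    rw [h5]
  choose n hn using fun i => K264.IdealNhd.exists_pow_le (hβft i) (hsupp i)
  obtain ⟨M, hM0, hM⟩ : ∃ M : ℕ, M ≠ 0 ∧ ∀ i, n i ≤ M :=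
    ⟨Finset.univ.sup n + 1, Nat.succ_ne_zero _, fun i => (Finset.le_sup (Finset.mem_univ i)).trans (Nat.le_succ _)⟩
  have hβM : ∀ i (x : l.image), stalkIdeal (β i) x ^ M ≤ stalkIdeal (β i) x * ⨆ j, stalkIdeal (α j) x := by
    intro i x
    have h1 := stalkIdeal_mono (hn i) x
    rw [stalkIdeal_pow, stalkIdeal_mul, stalkIdeal_iSup] at h1
    exact (Ideal.pow_le_pow_right (hM i)).trans h1
  -- the centres
  let K : ∀ i, (Xb i).IdealSheafData := fun i => I i ^ M ⊔ J i
  have hKadm : ∀ i, BlowUp.IsAdmissibleFor (o i).opensRange (K i) := by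
    intro i
    refine Groth.Agent.Flat2C.Admissible.admissible_sup ?_ (hJft i)
    refine Groth.Agent.Flat2C.Admissible.admissible_pow ⟨hIft i, ?_⟩ M
    rw [hIs]
    exact disjoint_compl_left
  choose Xb' c hc using fun i => Groth.Agent.Flat2C.BlowExist.exists_isBlowUp (K i)
  have hcp : ∀ i, IsProper (c i) := fun i =>
    Groth.Agent.Flat2C.BlowProper.isProper_of_isBlowUp (hc i) (hKadm i).1
  have hvmem : ∀ i (t : U), (v i ≫ o i) t ∈ compl (K i) := by
    intro i t ht
    exact Set.disjoint_left.mp (hKadm i).2 ht ⟨v i t, rfl⟩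
  choose v' hv' _ using fun i => existsUnique_lift_of_mem_compl (hc i) (v i ≫ o i) (hvmem i)
  change ∀ i, v' i ≫ c i = v i ≫ o i at hv'
  have w' : ∀ i, v' i ≫ c i ≫ gb i = jU ≫ gX := by
    intro i
    rw [← Category.assoc, hv', w]
  refine ⟨K, Xb', c, v', w', fun i => ⟨hc i, hKadm i, hv' i⟩, ?_⟩
  -- the second product
  have hbase' : IsProper (WidePullback.base (fun i => c i ≫ gb i)) :=
    K264.WideProp.base_mem @IsProper Xb' (fun i => c i ≫ gb i) (fun i => inferInstance)
  have hPq' : QuasiSeparatedSpace ↥(widePullback S Xb' (fun i => c i ≫ gb i)) :=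
    quasiSeparatedSpace_of_quasiSeparated (WidePullback.base (fun i => c i ≫ gb i))
  let l' : U ⟶ widePullback S Xb' (fun i => c i ≫ gb i) := WidePullback.lift (jU ≫ gX) (fun i => v' i) w'
  have hlq' : QuasiCompact l' := inferInstance
  intro z hz
  by_contra hcon
  push Not at hcon
  have hz1 : z ∈ Set.range l'.imageι := by
    rw [Scheme.IdealSheafData.range_subschemeι, Scheme.Hom.support_ker]
    exact hz
  obtain ⟨z', rfl⟩ := hz1
  let pr' : ∀ i, l'.image ⟶ Xb' i := fun i => l'.imageι ≫ WidePullback.π (fun i => c i ≫ gb i) i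
  have hlpr' : ∀ i, l'.toImage ≫ pr' i = v' i := by
    intro i
    simp only [pr', l']
    rw [Scheme.Hom.toImage_imageι_assoc, WidePullback.lift_π]
  have hcon' : ∀ i, pr' i z' ∈ closure ((fun y => c i y) ⁻¹' ((fun x => o i x) '' ((Y i).support : Set (Xi i)))) :=
    hcon
  let ρ : widePullback S Xb' (fun i => c i ≫ gb i) ⟶ widePullback S Xb gb :=
    WidePullback.lift (WidePullback.base (fun i => c i ≫ gb i))
      (fun i => WidePullback.π (fun i => c i ≫ gb i) i ≫ c i)
      (fun i => by rw [Category.assoc]; exact WidePullback.π_arrow (fun i => c i ≫ gb i) i)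
  have hρ : l' ≫ ρ = l := by
    apply WidePullback.hom_ext
    · intro i
      simp only [l', ρ, l]
      rw [Category.assoc, WidePullback.lift_π, WidePullback.lift_π_assoc, WidePullback.lift_π, hv']
    · simp only [l', ρ, l]
      rw [Category.assoc, WidePullback.lift_base, WidePullback.lift_base, WidePullback.lift_base]
  have hd' : IsSchemeTheoreticallyDominant l'.toImage :=
    Groth.Agent.Flat2C.GlueBlow.isSchemeTheoreticallyDominant_toImage l'
  obtain ⟨ρb, hρb⟩ := K264.QDomBlow.exists_factor l'.toImage (l'.imageι ≫ ρ) l.imageι l.toImage (by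
    rw [l.toImage_imageι, l'.toImage_imageι_assoc, hρ])
  have hρpr : ∀ i, ρb ≫ pr i = pr' i ≫ c i := by
    intro i
    simp only [pr, pr']
    rw [← Category.assoc, hρb, Category.assoc, WidePullback.lift_π, Category.assoc]
  -- local rings at `z'`
  have h1 : ∀ i, stalkIdeal ((J i).comap (pr' i ≫ c i)) z' ≤ stalkIdeal ((I i).comap (pr' i ≫ c i)) z' ^ M := by
    intro i
    have h2 := stalk_le_of_mem_closure (J i) (I i) (hJft i) (hIft i) M (c i) (hc i).1 _ (by
      rintro y ⟨x, hx, hxy⟩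
      change o i x = c i y at hxy
      rw [← hxy]
      exact ⟨(hJs i x).mpr hx, (hIn i _).mpr ⟨x, rfl⟩⟩) (pr' i z') (hcon' i)
    have h3 := Ideal.map_mono (f := ((pr' i).stalkMap z').hom) h2
    rw [Ideal.map_pow] at h3
    have e1 : (J i).comap (pr' i ≫ c i) = ((J i).comap (c i)).comap (pr' i) :=
      Scheme.IdealSheafData.comap_comp _ _ _
    have e2 : (I i).comap (pr' i ≫ c i) = ((I i).comap (c i)).comap (pr' i) :=
      Scheme.IdealSheafData.comap_comp _ _ _
    rw [e1, e2, Groth.Agent.Divis.CartierStalk.stalkIdeal_comap _ (pr' i),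
      Groth.Agent.Divis.CartierStalk.stalkIdeal_comap _ (pr' i)]
    exact h3
  have hαρ : ∀ i, stalkIdeal ((J i).comap (pr' i ≫ c i)) z' = (stalkIdeal (α i) (ρb z')).map (ρb.stalkMap z').hom := by
    intro i
    rw [← hρpr, Scheme.IdealSheafData.comap_comp, Groth.Agent.Divis.CartierStalk.stalkIdeal_comap _ ρb]
  have hβρ : ∀ i, stalkIdeal ((I i).comap (pr' i ≫ c i)) z' = (stalkIdeal (β i) (ρb z')).map (ρb.stalkMap z').hom := by
    intro i
    rw [← hρpr, Scheme.IdealSheafData.comap_comp, Groth.Agent.Divis.CartierStalk.stalkIdeal_comap _ ρb]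
  have h2 : ∀ i, stalkIdeal ((I i).comap (pr' i ≫ c i)) z' ^ M ≤
      stalkIdeal ((I i).comap (pr' i ≫ c i)) z' * ⨆ j, stalkIdeal ((J j).comap (pr' j ≫ c j)) z' := by
    intro i
    have h3 := Ideal.map_mono (f := (ρb.stalkMap z').hom) (hβM i (ρb z'))
    rw [Ideal.map_pow, Ideal.map_mul, Ideal.map_iSup] at h3
    simp only [hβρ, hαρ]
    exact h3
  by_cases hex : ∃ i, z' ∉ ((I i).comap (pr' i ≫ c i)).support
  · obtain ⟨i, hi⟩ := hex
    rw [Scheme.IdealSheafData.support_comap] at hi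
    have hi' : (pr' i ≫ c i) z' ∈ Set.range (o i) := (hIn i _).mp hi
    obtain ⟨j, hj⟩ := hempty (l.imageι (ρb z')) (by
      have h4 : l.imageι (ρb z') ∈ Set.range l.imageι := ⟨_, rfl⟩
      rw [Scheme.IdealSheafData.range_subschemeι, Scheme.Hom.support_ker] at h4
      exact h4)
    apply hj
    have h5 : pr j (ρb z') ∈ Set.range (o j) := by
      refine hdomain i j _ ?_
      rw [← Scheme.Hom.comp_apply, hρpr]
      exact hi'
    obtain ⟨y, hy⟩ := h5
    refine ⟨y, ?_, hy⟩
    change y ∈ (Y j).support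
    rw [← hJs, hy, ← Scheme.Hom.comp_apply, hρpr]
    have h6 : closure ((fun y => c j y) ⁻¹' ((fun x => o j x) '' ((Y j).support : Set (Xi j)))) ⊆
        (fun y => c j y) ⁻¹' ((J j).support : Set (Xb j)) := by
      refine (((J j).support.isClosed).preimage (c j).continuous).closure_subset_iff.mpr ?_
      rintro y ⟨x, hx, hxy⟩
      change c j y ∈ (J j).support
      change o j x = c j y at hxy
      rw [← hxy]
      exact (hJs j x).mpr hx
    exact h6 (hcon' j)
  · push Not at hex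
    have h3 : ∀ i, stalkIdeal ((I i).comap (pr' i ≫ c i)) z' ≤ IsLocalRing.maximalIdeal _ := fun i =>
      (mem_support_iff_stalkIdeal_le _ _).mp (hex i)
    obtain ⟨i, -⟩ := hempty (l.imageι (ρb z')) (by
      have h4 : l.imageι (ρb z') ∈ Set.range l.imageι := ⟨_, rfl⟩
      rw [Scheme.IdealSheafData.range_subschemeι, Scheme.Hom.support_ker] at h4
      exact h4)
    have hfg : (⨆ j, stalkIdeal ((J j).comap (pr' j ≫ c j)) z').FG := by
      refine fg_iSup _ fun j => ?_
      obtain ⟨V, hV⟩ := exists_affine z'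
      rw [stalkIdeal_eq _ V hV]
      exact (isFiniteTypeIdeal_comap (hJft j) (pr' j ≫ c j) V).map _
    have h4 := nakayama_aux _ _ _ rfl hfg M h1 h2 h3
    have h5 : stalkIdeal (((I i).comap (pr' i ≫ c i)) ^ M) z' ≤ stalkIdeal (⊥ : l'.image.IdealSheafData) z' := by
      rw [stalkIdeal_pow, stalkIdeal_bot]
      refine (h2 i).trans ?_
      rw [h4, Ideal.mul_bot]
    obtain ⟨N, hzN, hN⟩ := K264.IdealNhd.exists_nhd_le _ _
      (isFiniteTypeIdeal_pow (isFiniteTypeIdeal_comap (hIft i) (pr' i ≫ c i)) M) z' h5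
    obtain ⟨y, hyN, t, rfl⟩ := mem_closure_iff.mp (l'.toImage.denseRange z') N N.isOpen hzN
    have h6 := hN _ hyN
    have h7 : stalkIdeal ((I i).comap (pr' i ≫ c i)) (l'.toImage t) = ⊤ := by
      rw [← notMem_support_iff_stalkIdeal_eq_top, Scheme.IdealSheafData.support_comap]
      change (pr' i ≫ c i) (l'.toImage t) ∉ (I i).support
      rw [hIn, ← Scheme.Hom.comp_apply, ← Category.assoc, hlpr', hv']
      exact ⟨v i t, rfl⟩
    rw [stalkIdeal_pow, h7, Ideal.top_pow, stalkIdeal_bot] at h6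
    have h8 : (1 : l'.image.presheaf.stalk (l'.toImage t)) ∈ (⊥ : Ideal _) := h6 trivial
    exact one_ne_zero ((Submodule.mem_bot _).mp h8)

end K264.SepMain
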